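/-
Odd cores of subgroups, subgroups factorized over their odd core, and two transfer lemmas.
-/
import Cfsg.Agent.Lib.Basic
import Mathlib

set_option autoImplicit false

namespace CfsgA8C

open Cfsg Subgroup

variable {G : Type*} [Group G]

/-- The odd core of a subgroup, inside the ambient group. -/
def core (X : Subgroup G) : Subgroup G := (oddCore X).map X.subtype

/-- Every element of `X` is an element of `N` times an element of the odd core of `X`. -/
def Ctl (X N : Subgroup G) : Prop := ∀ g ∈ X, ∃ n ∈ N, ∃ o ∈ core X, g = n * o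

theorem core_le (X : Subgroup G) : core X ≤ X := Subgroup.map_subtype_le _

theorem core_conj_mem {X : Subgroup G} {x o : G} (hx : x ∈ X) (ho : o ∈ core X) : x * o * x⁻¹ ∈ core X := by
  obtain ⟨o, ho, rfl⟩ := ho
  exact ⟨⟨x, hx⟩ * o * ⟨x, hx⟩⁻¹, (inferInstance : (oddCore X).Normal).conj_mem o ho _, rfl⟩

theorem invol_inv {x : G} (h : x * x = 1) : x⁻¹ = x := inv_eq_of_mul_eq_one_right h

variable [Finite G]

theorem core_odd (X : Subgroup G) : Odd (Nat.card (core X)) := by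
  rw [core, Subgroup.card_map_of_injective X.subtype_injective]
  exact CfsgLib.odd_card_oddCore

theorem odd_mono {H K : Subgroup G} (hle : H ≤ K) (h : Odd (Nat.card K)) : Odd (Nat.card H) :=
  h.of_dvd_nat (Subgroup.card_dvd_of_le hle)

theorem odd_orderOf {H : Subgroup G} (hH : Odd (Nat.card H)) {x : G} (hx : x ∈ H) : Odd (orderOf x) := by
  refine hH.of_dvd_nat ?_
  rw [← Subgroup.orderOf_mk x hx]
  exact orderOf_dvd_natCard _

theorem eq_one_of_odd_sq {x : G} (h : x * x = 1) (ho : Odd (orderOf x)) : x = 1 := by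
  have h2 : orderOf x ∣ 2 := orderOf_dvd_of_pow_eq_one (by rw [pow_two, h])
  rcases (Nat.dvd_prime Nat.prime_two).mp h2 with e | e
  · exact orderOf_eq_one_iff.mp e
  · rw [e] at ho; exact absurd ho (by decide)

theorem inf_odd {A O : Subgroup G} (hA : ∀ a ∈ A, a * a = 1) (hO : Odd (Nat.card O)) {x : G}
    (hx : x ∈ A) (hx' : x ∈ O) : x = 1 :=
  eq_one_of_odd_sq (hA x hx) (odd_orderOf hO hx')

/-- An odd subgroup of `X` normalised by `X` lies in the odd core. -/
theorem le_core {X D : Subgroup G} (hD : D ≤ X) (hodd : Odd (Nat.card D))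
    (hn : ∀ x ∈ X, ∀ d ∈ D, x * d * x⁻¹ ∈ D) : D ≤ core X := by
  have : (D.subgroupOf X).Normal := ⟨fun d hd x => hn x x.2 d hd⟩
  have h : D.subgroupOf X ≤ oddCore X := CfsgLib.le_oddCore (by
    rwa [Nat.card_congr (Subgroup.subgroupOfEquivOfLe hD).toEquiv])
  intro d hd
  exact ⟨⟨d, hD hd⟩, h hd, rfl⟩

/-- The core is equivariant. -/
theorem core_map {H : Type*} [Group H] [Finite H] (f : G ≃* H) (X : Subgroup G) :
    (core X).map f.toMonoidHom = core (X.map f.toMonoidHom) := by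
  refine le_antisymm (le_core (Subgroup.map_mono (core_le X)) ?_ ?_) ?_
  · rw [Subgroup.card_map_of_injective (MulEquiv.injective f)]; exact core_odd X
  · rintro _ ⟨x, hx, rfl⟩ _ ⟨o, ho, rfl⟩
    exact ⟨x * o * x⁻¹, core_conj_mem hx ho, by simp⟩
  · intro d hd
    refine Subgroup.mem_map_equiv.mpr ?_
    have hle : (core (X.map f.toMonoidHom)).map f.symm.toMonoidHom ≤ core X := by
      refine le_core ?_ ?_ ?_
      · rintro _ ⟨d, hd, rfl⟩
        exact Subgroup.mem_map_equiv.mp (core_le _ hd)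
      · rw [Subgroup.card_map_of_injective (MulEquiv.injective f.symm)]; exact core_odd _
      · rintro x hx _ ⟨o, ho, rfl⟩
        exact ⟨f x * o * (f x)⁻¹, core_conj_mem ⟨x, hx, rfl⟩ ho, by simp⟩
    exact hle ⟨d, hd, rfl⟩

theorem core_conj {X Y : Subgroup G} {g : G} (hXY : ∀ x, x ∈ X ↔ g * x * g⁻¹ ∈ Y) {o : G} (ho : o ∈ core X) :
    g * o * g⁻¹ ∈ core Y := by
  have e : X.map (MulAut.conj g).toMonoidHom = Y := by
    ext y
    rw [Subgroup.mem_map_equiv, hXY]
    simp [mul_assoc]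
  rw [← e, ← core_map]
  exact ⟨o, ho, rfl⟩

/-- Two odd subgroups of which the first is normalised by both generate an odd subgroup. -/
theorem odd_sup {D E : Subgroup G} (hD : Odd (Nat.card D)) (hE : Odd (Nat.card E))
    (hn : ∀ e ∈ E, ∀ d ∈ D, e * d * e⁻¹ ∈ D) : Odd (Nat.card ↥(D ⊔ E)) := by
  set M := D ⊔ E
  have hnM : ∀ m ∈ M, ∀ d ∈ D, m * d * m⁻¹ ∈ D := by
    have hle : M ≤ Subgroup.normalizer (D : Set G) := sup_le Subgroup.le_normalizer fun e he => by
      refine Subgroup.mem_normalizer_iff.mpr fun d => ⟨fun hd => hn e he d hd, fun hd => ?_⟩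
      have := hn e⁻¹ (inv_mem he) _ hd
      simpa [mul_assoc] using this
    exact fun m hm d hd => (Subgroup.mem_normalizer_iff.mp (hle hm) d).mp hd
  have : (D.subgroupOf M).Normal := ⟨fun d hd m => hnM m m.2 d hd⟩
  have h := CfsgLib.card_sup_dvd_mul (E.subgroupOf M) (D.subgroupOf M)
  rw [← Subgroup.subgroupOf_sup le_sup_right le_sup_left, sup_comm, Subgroup.subgroupOf_self, Subgroup.card_top,
    Nat.card_congr (Subgroup.subgroupOfEquivOfLe (le_sup_right : E ≤ M)).toEquiv,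
    Nat.card_congr (Subgroup.subgroupOfEquivOfLe (le_sup_left : D ≤ M)).toEquiv] at h
  exact (hE.mul hD).of_dvd_nat h

/-- A Sylow subgroup central in its normalizer splits off the odd core. -/
theorem burnside2 {X : Subgroup G} {A : Subgroup G} (hAX : A ≤ X) (hA : ∀ a ∈ A, a * a = 1)
    (hsyl : ∀ P : Subgroup G, A ≤ P → P ≤ X → IsPGroup 2 P → P ≤ A)
    (hN : ∀ n ∈ X, (∀ a ∈ A, n * a * n⁻¹ ∈ A) → ∀ a ∈ A, n * a * n⁻¹ = a) : Ctl X A := by
  have := Fact.mk Nat.prime_two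
  have hpA : IsPGroup 2 (A.subgroupOf X) := fun a => ⟨1, Subtype.ext (Subtype.ext (by
    simpa [pow_two] using hA _ a.2))⟩
  obtain ⟨P, hP⟩ := hpA.exists_le_sylow
  have hPA : ∀ x : X, x ∈ (P : Subgroup X) ↔ (x : G) ∈ A := fun x => by
    refine ⟨fun hx => hsyl ((P : Subgroup X).map X.subtype) ?_ (Subgroup.map_subtype_le _) (P.2.map _)
      ⟨x, hx, rfl⟩, fun hx => hP hx⟩
    exact fun a ha => ⟨⟨a, hAX ha⟩, hP ha, rfl⟩
  have hNP : Subgroup.normalizer ((P : Subgroup X) : Set X) ≤ Subgroup.centralizer ((P : Subgroup X) : Set X) := by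
    intro n hn
    refine Subgroup.mem_centralizer_iff.mpr fun p hp => Subtype.ext ?_
    have h := hN n n.2 (fun a ha => (hPA _).mp ((Subgroup.mem_normalizer_iff.mp hn ⟨a, hAX ha⟩).mp ((hPA _).mpr ha))) p
      ((hPA p).mp hp)
    exact (mul_inv_eq_iff_eq_mul.mp h).symm
  have hc := MonoidHom.ker_transferSylow_isComplement' P hNP
  have hle : (MonoidHom.transferSylow P hNP).ker ≤ oddCore X := CfsgLib.le_oddCore (Nat.odd_iff.mpr
    (Nat.two_dvd_ne_zero.mp (MonoidHom.not_dvd_card_ker_transferSylow P hNP)))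
  intro g hg
  obtain ⟨⟨k, p⟩, e⟩ := hc.2 ⟨g, hg⟩
  refine ⟨(p : X), (hPA _).mp p.2, ((p : X) : G)⁻¹ * (k : X) * (p : X), ?_, ?_⟩
  · exact ⟨(p : X)⁻¹ * (k : X) * (p : X),
      Subgroup.Normal.conj_mem' inferInstance _ (hle k.2) _, by simp⟩
  · have e' : ((k : X) : G) * ((p : X) : G) = g := congrArg Subtype.val e
    rw [← mul_assoc, ← mul_assoc, mul_inv_cancel, one_mul, e']

/-- A 2-element of `X` is conjugate in `X` into `N`. -/
theorem Ctl.exists_conj {X N : Subgroup G} (h : Ctl X N) {x : G} (hx : x ∈ X) (hp : ∃ k, x ^ 2 ^ k = 1) :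
    ∃ c ∈ X, c * x * c⁻¹ ∈ N := by
  classical
  have := Fact.mk Nat.prime_two
  set N' : Subgroup X := N.subgroupOf X
  set O : Subgroup X := oddCore X
  have hsurj : ∀ q : X ⧸ N', ∃ o : O, ((o : X) : X ⧸ N') = q := fun q => by
    obtain ⟨g, rfl⟩ := QuotientGroup.mk_surjective q
    obtain ⟨n, hn, o, ⟨o', ho', rfl⟩, e⟩ := h g g.2
    have hn' : n ∈ X := by
      have : n = g * (o' : G)⁻¹ := eq_mul_inv_of_mul_eq e.symm
      rw [this]; exact X.mul_mem g.2 (X.inv_mem o'.2)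
    refine ⟨⟨⟨n, hn'⟩ * o' * ⟨n, hn'⟩⁻¹, (inferInstance : O.Normal).conj_mem o' ho' _⟩, ?_⟩
    rw [QuotientGroup.eq]
    show ((⟨n, hn'⟩ * o' * ⟨n, hn'⟩⁻¹ : X)⁻¹ * g : X) ∈ N'
    rw [show g = (⟨n, hn'⟩ : X) * o' from Subtype.ext e, Subgroup.mem_subgroupOf]
    simpa [mul_assoc] using hn
  have hodd : Odd (Nat.card (X ⧸ N')) := by
    have horb : MulAction.orbit O ((1 : X) : X ⧸ N') = Set.univ := Set.eq_univ_of_forall fun q => by
      obtain ⟨o, rfl⟩ := hsurj q
      exact ⟨o, by show ((o : X) • ((1 : X) : X ⧸ N')) = _; rw [MulAction.Quotient.smul_mk, smul_eq_mul, mul_one]⟩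
    have hdvd : Nat.card (MulAction.orbit O ((1 : X) : X ⧸ N')) ∣ Nat.card O :=
      Dvd.intro _ (by rw [← Nat.card_prod]; exact Nat.card_congr (MulAction.orbitProdStabilizerEquivGroup O _))
    rw [horb, Nat.card_congr (Equiv.Set.univ _)] at hdvd
    exact CfsgLib.odd_card_oddCore.of_dvd_nat hdvd
  set P : Subgroup X := Subgroup.zpowers ⟨x, hx⟩
  have hP : IsPGroup 2 P := by
    obtain ⟨k, hk⟩ := hp
    rintro ⟨y, hy⟩
    obtain ⟨m, rfl⟩ := Subgroup.mem_zpowers_iff.mp hy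
    refine ⟨k, Subtype.ext ?_⟩
    show (_ ^ m : X) ^ 2 ^ k = 1
    rw [← zpow_natCast, ← zpow_mul, mul_comm, zpow_mul, zpow_natCast,
      show (⟨x, hx⟩ : X) ^ 2 ^ k = 1 from Subtype.ext hk, one_zpow]
  obtain ⟨q, hq⟩ := hP.nonempty_fixed_point_of_prime_not_dvd_card (X ⧸ N')
    (fun h2 => (Nat.not_even_iff_odd.mpr hodd) (even_iff_two_dvd.mpr h2))
  obtain ⟨c, rfl⟩ := QuotientGroup.mk_surjective q
  have hfix := hq ⟨_, Subgroup.mem_zpowers _⟩
  change (⟨x, hx⟩ : X) • (c : X ⧸ N') = (c : X ⧸ N') at hfix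
  rw [MulAction.Quotient.smul_mk, smul_eq_mul, QuotientGroup.eq, Subgroup.mem_subgroupOf] at hfix
  refine ⟨(c : G)⁻¹, X.inv_mem c.2, ?_⟩
  have := N.inv_mem hfix
  simpa [mul_assoc] using this

omit [Finite G] in
theorem mul_comm_of_conj {b o : G} (h : o * b * o⁻¹ * b = 1) (hb : b * b = 1) : o * b = b * o := by
  rw [mul_eq_one_iff_eq_inv, invol_inv hb, mul_inv_eq_iff_eq_mul] at h
  exact h

/-- Centralizing an involution of `A` preserves the factorization. -/
theorem Ctl.inter {X A : Subgroup G} (h : Ctl X (Subgroup.normalizer (A : Set G))) (hA : ∀ a ∈ A, a * a = 1)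
    (hcomm : ∀ a ∈ A, ∀ a' ∈ A, a * a' = a' * a) (hAX : A ≤ X) {b : G} (hb : b ∈ A) :
    Ctl (X ⊓ Subgroup.centralizer ({b} : Set G)) (Subgroup.normalizer (A : Set G)) := by
  intro g hg
  obtain ⟨hgX, hgb⟩ := hg
  replace hgb : g * b = b * g := Subgroup.mem_centralizer_singleton_iff.mp hgb
  obtain ⟨n, hn, o, ho, e⟩ := h g hgX
  have h1 : o * b * o⁻¹ = n⁻¹ * b * n := by
    have e2 : o = n⁻¹ * g := by rw [e, inv_mul_cancel_left]
    rw [e2]
    calc n⁻¹ * g * b * (n⁻¹ * g)⁻¹ = n⁻¹ * (g * b) * g⁻¹ * n := by group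
      _ = n⁻¹ * b * n := by rw [hgb]; group
  have hA' : o * b * o⁻¹ ∈ A := by
    rw [h1]; exact (Subgroup.mem_normalizer_iff''.mp hn b).mp hb
  have hO : o * b * o⁻¹ * b ∈ core X := by
    rw [show o * b * o⁻¹ * b = o * (b * o⁻¹ * b⁻¹) * (b * b) by group, hA b hb, mul_one]
    exact mul_mem ho (core_conj_mem (hAX hb) (inv_mem ho))
  have hob : o * b = b * o := mul_comm_of_conj (inf_odd hA (core_odd X) (mul_mem hA' hb) hO) (hA b hb)
  refine ⟨n, hn, o, ?_, e⟩
  refine le_core (X := X ⊓ Subgroup.centralizer ({b} : Set G)) (D := core X ⊓ Subgroup.centralizer ({b} : Set G))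
    (inf_le_inf_right _ (core_le X)) (odd_mono inf_le_left (core_odd X)) ?_
    ⟨ho, Subgroup.mem_centralizer_singleton_iff.mpr hob⟩
  intro x hx d hd
  exact ⟨core_conj_mem hx.1 hd.1, Subgroup.mul_mem _ (Subgroup.mul_mem _ hx.2 hd.2) (Subgroup.inv_mem _ hx.2)⟩

/-- Transfer: an involution with no conjugate in a maximal subgroup of a Sylow 2-subgroup. -/
theorem transfer_neg (P : Sylow 2 G) (Q : Subgroup G) (hQP : Q ≤ (P : Subgroup G))
    (hQi : Q.relIndex (P : Subgroup G) = 2) (u : G) (hu : u * u = 1) (hno : ∀ g : G, g * u * g⁻¹ ∉ Q) :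
    ∃ χ : G →* ℤˣ, χ u = -1 := by
  classical
  have hQ2 : (Q.subgroupOf (P : Subgroup G)).index = 2 := hQi
  let ψ : (P : Subgroup G) →* ℤˣ :=
    { toFun := fun x => if x ∈ Q.subgroupOf (P : Subgroup G) then 1 else -1
      map_one' := by simp [one_mem]
      map_mul' := fun a b => by
        have h := Subgroup.mul_mem_iff_of_index_two hQ2 (a := a) (b := b)
        by_cases ha : a ∈ Q.subgroupOf (P : Subgroup G) <;> by_cases hb : b ∈ Q.subgroupOf (P : Subgroup G) <;>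
          simp [ha, hb, h] }
  refine ⟨MonoidHom.transfer ψ, ?_⟩
  haveI : Fintype (Quotient (MulAction.orbitRel (Subgroup.zpowers u) (G ⧸ (P : Subgroup G)))) := Fintype.ofFinite _
  have hodd : Odd (P : Subgroup G).index := by
    rw [Nat.odd_iff, ← Nat.two_dvd_ne_zero]
    exact P.not_dvd_index
  rw [MonoidHom.transfer_eq_prod_quotient_orbitRel_zpowers_quot]
  conv_rhs => rw [← hodd.neg_one_pow (α := ℤˣ), Subgroup.index_eq_sum_minimalPeriod (P : Subgroup G) u,
    ← Finset.prod_pow_eq_pow_sum]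
  refine Finset.prod_congr rfl fun o _ => ?_
  have hm : Function.minimalPeriod (u • ·) o.out = 1 ∨ Function.minimalPeriod (u • ·) o.out = 2 := by
    refine (Nat.dvd_prime Nat.prime_two).mp (Function.IsPeriodicPt.minimalPeriod_dvd ?_)
    show (fun x : G ⧸ (P : Subgroup G) => u • x)^[2] o.out = o.out
    rw [smul_iterate, pow_two, hu]
    exact one_smul G o.out
  have hval : ∀ (m : ℕ) (g₀ : G) (hmem : g₀⁻¹ * u ^ m * g₀ ∈ (P : Subgroup G)), m = 1 ∨ m = 2 →
      ψ ⟨g₀⁻¹ * u ^ m * g₀, hmem⟩ = (-1) ^ m := by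
    rintro m g₀ hmem (rfl | rfl)
    · refine (if_neg ?_).trans (pow_one _).symm
      rw [Subgroup.mem_subgroupOf]
      simpa using hno g₀⁻¹
    · refine (if_pos ?_).trans neg_one_sq.symm
      rw [Subgroup.mem_subgroupOf]
      simp [pow_two, hu, one_mem]
  exact hval _ _ _ hm

end CfsgA8C
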