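/-
A strongly closed elementary abelian subgroup with two unfused elements and factorized centralizers.
-/
import Cfsg.Agent.Lib.A8Classes.Cores
import Cfsg.Agent.S0205
import Cfsg.Agent.S0217

set_option autoImplicit false

namespace CfsgA8C

open Cfsg Subgroup

variable {G : Type*} [Group G]

/-- `A` is an elementary abelian subgroup strongly closed with respect to `X`. -/
structure SC (X A : Subgroup G) : Prop where
  le : A ≤ X
  sq : ∀ a ∈ A, a * a = 1
  comm : ∀ a ∈ A, ∀ b ∈ A, a * b = b * a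
  closed : ∀ a ∈ A, ∀ g ∈ X, g * a * g⁻¹ ∈ Subgroup.normalizer (A : Set G) → g * a * g⁻¹ ∈ A
  syl : ∀ P : Subgroup G, A ≤ P → P ≤ X → IsPGroup 2 P → P ≤ Subgroup.normalizer (A : Set G)
  cent : ∀ c ∈ X, (∀ a ∈ A, c * a = a * c) → (∃ k, c ^ 2 ^ k = 1) → c ∈ A

theorem SC.mono {X Y A : Subgroup G} (S : SC X A) (hle : Y ≤ X) (hA : A ≤ Y) : SC Y A :=
  ⟨hA, S.sq, S.comm, fun a ha g hg => S.closed a ha g (hle hg), fun P h1 h2 h3 => S.syl P h1 (h2.trans hle) h3,
    fun c hc => S.cent c (hle hc)⟩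

theorem mem_normalizer_of_le [Finite G] {A : Subgroup G} {g : G} (h : ∀ a ∈ A, g * a * g⁻¹ ∈ A) :
    g ∈ Subgroup.normalizer (A : Set G) := by
  let φ : A → A := fun a => ⟨g * a * g⁻¹, h a a.2⟩
  have hs := Finite.surjective_of_injective (f := φ) fun a b hab => Subtype.ext (by simpa [φ] using congrArg Subtype.val hab)
  refine Subgroup.mem_normalizer_iff.mpr fun a => ⟨h a, fun ha => ?_⟩
  obtain ⟨b, hb⟩ := hs ⟨_, ha⟩
  have : (b : G) = a := by simpa [φ] using congrArg Subtype.val hb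
  exact this ▸ b.2

/-- Two non-conjugate involutions centralize a third one. -/
theorem dihedral_third [Finite G] {X : Subgroup G} {x y : G} (hxX : x ∈ X) (hyX : y ∈ X) (hx : x * x = 1)
    (hy : y * y = 1) (hnc : ∀ g ∈ X, g * x * g⁻¹ ≠ y) :
    ∃ z ∈ X, z * z = 1 ∧ z ≠ 1 ∧ z * x = x * z ∧ z * y = y * z ∧
      ∃ c ∈ X, c * x * c⁻¹ = x * z ∨ c * y * c⁻¹ = x * z := by
  set w := x * y with hw
  have hwX : w ∈ X := mul_mem hxX hyX
  have hinv : ∀ s, s = x ∨ s = y → ∀ j : ℕ, (w ^ j)⁻¹ * s = s * w ^ j := by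
    intro s hs j
    have hb : s * w * s⁻¹ = w⁻¹ := by
      rw [hw, mul_inv_rev, invol_inv hx, invol_inv hy]
      rcases hs with rfl | rfl
      · rw [invol_inv hx, ← mul_assoc, hx, one_mul]
      · rw [invol_inv hy, mul_assoc, mul_assoc, hy, mul_one]
    rw [← inv_pow, ← hb, conj_pow]
    group
  set n := orderOf w
  have hn : w ^ n = 1 := pow_orderOf_eq_one w
  rcases Nat.even_or_odd' n with ⟨m, hm | hm⟩
  swap
  · exfalso
    refine hnc ((w ^ (m + 1))⁻¹) (X.inv_mem (X.pow_mem hwX _)) ?_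
    rw [inv_inv, hinv x (Or.inl rfl), mul_assoc, ← pow_add,
      show m + 1 + (m + 1) = n + 1 by omega, pow_succ, hn, one_mul, hw, ← mul_assoc, hx, one_mul]
  have hz2 : w ^ m * w ^ m = 1 := by rw [← pow_add, show m + m = n by omega, hn]
  have hzs : ∀ s, s = x ∨ s = y → w ^ m * s = s * w ^ m := fun s hs => by
    rw [← hinv s hs m, invol_inv hz2]
  have hm0 : 0 < m := by
    have : 0 < n := orderOf_pos w
    omega
  refine ⟨w ^ m, X.pow_mem hwX m, hz2, pow_ne_one_of_lt_orderOf (by omega) (by omega), hzs x (Or.inl rfl),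
    hzs y (Or.inr rfl), ?_⟩
  rcases Nat.even_or_odd' m with ⟨j, rfl | rfl⟩
  · refine ⟨(w ^ j)⁻¹, X.inv_mem (X.pow_mem hwX j), Or.inl ?_⟩
    rw [inv_inv, hinv x (Or.inl rfl), mul_assoc, ← pow_add, two_mul]
  · refine ⟨(w ^ j)⁻¹, X.inv_mem (X.pow_mem hwX j), Or.inr ?_⟩
    rw [inv_inv, hinv y (Or.inr rfl), mul_assoc, ← pow_add, ← two_mul, pow_succ', ← mul_assoc x, hw, ← mul_assoc, hx,
      one_mul]

variable [Finite G] {X A : Subgroup G}

/-- An element with a suitable partner. -/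
def Good (X A Z : Subgroup G) (v : G) : Prop :=
  ∃ u ∈ A, u ∉ Z ∧ (∀ g ∈ X, g * u * g⁻¹ ≠ v) ∧
    ∀ ζ ∈ Z, ζ ≠ 1 → ∀ g ∈ X, g * u * g⁻¹ ≠ u * ζ ∧ g * v * g⁻¹ ≠ u * ζ

/-- A subgroup containing the normalizer and the centralizers is everything. -/
theorem step (S : SC X A) {Z : Subgroup G} (hZA : Z ≤ A) (hZc : ∀ ζ ∈ Z, ∀ x ∈ X, ζ * x = x * ζ)
    (hC : ∀ w ∈ A, w ∉ Z → Ctl (X ⊓ Subgroup.centralizer ({w} : Set G)) (Subgroup.normalizer (A : Set G)))
    (hgood : ∀ B : Subgroup G, Z ≤ B → (∀ v ∈ A, Good X A Z v → v ∈ B) → A ≤ B)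
    {H : Subgroup G} (hHX : H ≤ X) (hN : X ⊓ Subgroup.normalizer (A : Set G) ≤ H)
    (hCH : ∀ w ∈ A, w ∉ Z → X ⊓ Subgroup.centralizer ({w} : Set G) ≤ H) : X ≤ H := by
  have hAH : A ≤ H := fun a ha => hN ⟨S.le ha, Subgroup.le_normalizer ha⟩
  have hv : ∀ v ∈ A, Good X A Z v → ∀ k ∈ X, k * v * k⁻¹ ∈ H := by
    rintro v hv ⟨u, hu, huZ, hnc, hζ⟩ k hk
    set y := k * v * k⁻¹
    have hyX : y ∈ X := X.mul_mem (X.mul_mem hk (S.le hv)) (X.inv_mem hk)
    have hyy : y * y = 1 := by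
      rw [show y * y = k * (v * v) * k⁻¹ by simp only [y]; group, S.sq v hv, mul_one, mul_inv_cancel]
    obtain ⟨z, hzX, hzz, hz1, hzu, hzy, c, hc, hcase⟩ := dihedral_third (S.le hu) hyX (S.sq u hu) hyy
      (fun g hg e => hnc (k⁻¹ * g) (X.mul_mem (X.inv_mem hk) hg) (by
        calc k⁻¹ * g * u * (k⁻¹ * g)⁻¹ = k⁻¹ * (g * u * g⁻¹) * k := by group
          _ = v := by rw [e]; simp only [y]; group))
    -- `u * z` is a conjugate of `u` or `v`
    obtain ⟨p, hp, r, hr, hpr⟩ : ∃ p, (p = u ∨ p = v) ∧ ∃ r ∈ X, r * p * r⁻¹ = u * z := by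
      rcases hcase with e | e
      · exact ⟨u, Or.inl rfl, c, hc, e⟩
      · exact ⟨v, Or.inr rfl, c * k, X.mul_mem hc hk, by rw [← e]; simp only [y]; group⟩
    have hpA : p ∈ A := by rcases hp with rfl | rfl <;> assumption
    have huzX : u * z ∈ X ⊓ Subgroup.centralizer ({u} : Set G) := ⟨X.mul_mem (S.le hu) hzX,
      Subgroup.mem_centralizer_singleton_iff.mpr (by rw [mul_assoc, hzu])⟩
    obtain ⟨d, hd, hdN⟩ := (hC u hu huZ).exists_conj huzX ⟨1, by
      rw [pow_one, pow_two, show u * z * (u * z) = u * (z * u) * z by group, hzu, ← mul_assoc, S.sq u hu, one_mul, hzz]⟩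
    have hduz : d * (u * z) * d⁻¹ ∈ A := by
      rw [← hpr, show d * (r * p * r⁻¹) * d⁻¹ = (d * r) * p * (d * r)⁻¹ by group] at hdN ⊢
      exact S.closed p hpA _ (X.mul_mem hd.1 hr) hdN
    have hdu : d * u * d⁻¹ = u := mul_inv_eq_iff_eq_mul.mpr (Subgroup.mem_centralizer_singleton_iff.mp hd.2)
    have hdz : d * z * d⁻¹ ∈ A := by
      have : d * z * d⁻¹ = u * (d * (u * z) * d⁻¹) := by
        rw [show d * (u * z) * d⁻¹ = (d * u * d⁻¹) * (d * z * d⁻¹) by group, hdu, ← mul_assoc, S.sq u hu, one_mul]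
      rw [this]; exact A.mul_mem hu hduz
    have hdzZ : d * z * d⁻¹ ∉ Z := by
      intro hZ
      have hzZ : z ∈ Z := by
        have h := hZc _ hZ d hd.1
        have e : d * z * d⁻¹ = z := by
          calc d * z * d⁻¹ = d⁻¹ * (d * (d * z * d⁻¹)) := by group
            _ = d⁻¹ * ((d * z * d⁻¹) * d) := by rw [h]
            _ = z := by group
        exact e ▸ hZ
      obtain ⟨h1, h2⟩ := hζ z hzZ hz1 r hr
      rcases hp with rfl | rfl
      · exact h1 hpr
      · exact h2 hpr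
    have hdy : d * y * d⁻¹ ∈ H := hCH _ hdz hdzZ ⟨X.mul_mem (X.mul_mem hd.1 hyX) (X.inv_mem hd.1),
      Subgroup.mem_centralizer_singleton_iff.mpr (by
        calc d * y * d⁻¹ * (d * z * d⁻¹) = d * (y * z) * d⁻¹ := by group
          _ = d * (z * y) * d⁻¹ := by rw [hzy]
          _ = _ := by group)⟩
    have hdH : d ∈ H := hCH u hu huZ hd
    rw [show y = d⁻¹ * (d * y * d⁻¹) * d by group]
    exact H.mul_mem (H.mul_mem (H.inv_mem hdH) hdy) hdH
  intro g hg
  have hgA : ∀ a ∈ A, g * a * g⁻¹ ∈ H := by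
    intro a ha
    have := hgood (H.comap (MulAut.conj g).toMonoidHom) (fun ζ hζ => ?_) (fun v hvA hvg => ?_) ha
    · simpa using this
    · show g * ζ * g⁻¹ ∈ H
      rw [← hZc ζ hζ g hg, mul_inv_cancel_right]
      exact hAH (hZA hζ)
    · exact hv v hvA hvg g hg
  -- Sylow in `H`
  have := Fact.mk Nat.prime_two
  have hpA : IsPGroup 2 A := fun a => ⟨1, Subtype.ext (by simpa [pow_two] using S.sq a a.2)⟩
  set A1 : Subgroup G := A.map (MulAut.conj g).toMonoidHom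
  have hA1 : A1 ≤ H := by rintro _ ⟨a, ha, rfl⟩; exact hgA a ha
  obtain ⟨P, hP⟩ := ((hpA.comap_subtype (K := H)) : IsPGroup 2 (A.subgroupOf H)).exists_le_sylow
  obtain ⟨P1, hP1⟩ := ((hpA.map (MulAut.conj g).toMonoidHom).comap_subtype (K := H) :
    IsPGroup 2 (A1.subgroupOf H)).exists_le_sylow
  obtain ⟨⟨h, hh⟩, he⟩ := MulAction.exists_smul_eq H P1 P
  have hPN : (P : Subgroup H).map H.subtype ≤ Subgroup.normalizer (A : Set G) :=
    S.syl _ (fun a ha => ⟨⟨a, hAH ha⟩, hP ha, rfl⟩) ((Subgroup.map_subtype_le _).trans hHX) (P.2.map _)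
  have hmem : h * g ∈ Subgroup.normalizer (A : Set G) := mem_normalizer_of_le fun a ha => by
    refine S.closed a ha (h * g) (X.mul_mem (hHX hh) hg) (hPN ?_)
    have h1 : (⟨h, hh⟩ : H) * ⟨g * a * g⁻¹, hgA a ha⟩ * (⟨h, hh⟩ : H)⁻¹ ∈ (P : Subgroup H) := by
      rw [← he, Sylow.coe_subgroup_smul]
      exact ⟨⟨g * a * g⁻¹, hgA a ha⟩, hP1 ⟨a, ha, by simp⟩, by simp⟩
    exact ⟨_, h1, by simp [mul_assoc]⟩
  rw [show g = h⁻¹ * (h * g) by group]
  exact H.mul_mem (H.inv_mem hh) (hN ⟨X.mul_mem (hHX hh) hg, hmem⟩)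

/-- Odd elements centralizing `A` lie in the odd core of every factorized centralizer. -/
theorem centA_core (S : SC X A) {w : G} (hw : w ∈ A)
    (hC : Ctl (X ⊓ Subgroup.centralizer ({w} : Set G)) (Subgroup.normalizer (A : Set G))) {n : G} (hn : n ∈ X)
    (hnA : ∀ a ∈ A, n * a = a * n) (hodd : Odd (orderOf n)) : n ∈ core (X ⊓ Subgroup.centralizer ({w} : Set G)) := by
  set CA := X ⊓ Subgroup.centralizer (A : Set G) with hCA
  have hACA : A ≤ CA := le_inf S.le fun a ha => Subgroup.mem_centralizer_iff.mpr fun b hb => S.comm b hb a ha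
  have hb := burnside2 hACA S.sq (fun P hAP hPX hP c hc => S.cent c (hPX hc).1
      (fun a ha => (Subgroup.mem_centralizer_iff.mp (hPX hc).2 a ha).symm) (by
        obtain ⟨k, hk⟩ := hP ⟨c, hc⟩
        exact ⟨k, congrArg Subtype.val hk⟩))
    (fun m hm _ a ha => mul_inv_eq_iff_eq_mul.mpr (Subgroup.mem_centralizer_iff.mp hm.2 a ha).symm)
  have hnO : n ∈ core CA := by
    obtain ⟨a, ha, o, ho, e⟩ := hb n ⟨hn, Subgroup.mem_centralizer_iff.mpr fun a ha => (hnA a ha).symm⟩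
    have hao : Commute o a := (Subgroup.mem_centralizer_iff.mp (core_le _ ho).2 a ha).symm
    have ha1 : a = 1 := by
      have he : a = n * o⁻¹ := eq_mul_inv_of_mul_eq e.symm
      refine eq_one_of_odd_sq (S.sq a ha) (Odd.of_dvd_nat (hodd.mul (odd_orderOf (core_odd CA) ho)) ?_)
      have hc : Commute n o⁻¹ := by
        rw [e]; exact (Commute.mul_left hao.symm (Commute.refl o)).inv_right
      rw [he]
      exact hc.orderOf_mul_dvd_mul_orderOf.trans (by rw [orderOf_inv])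
    rw [e, ha1, one_mul]; exact ho
  set Xw := X ⊓ Subgroup.centralizer ({w} : Set G)
  have hCAw : CA ≤ Xw := inf_le_inf_left _ (Subgroup.centralizer_le (Set.singleton_subset_iff.mpr hw))
  refine (le_core (X := Xw) (D := core Xw ⊔ core CA) (sup_le (core_le _) ((core_le _).trans hCAw))
    (odd_sup (core_odd _) (core_odd _) fun e he d hd => core_conj_mem (hCAw (core_le _ he)) hd) ?_)
    (Subgroup.mem_sup_right hnO)
  intro x hx d hd
  obtain ⟨m, hm, o, ho, e⟩ := hC x hx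
  have hmX : m ∈ X := by
    rw [eq_mul_inv_of_mul_eq e.symm]
    exact X.mul_mem hx.1 (X.inv_mem (core_le _ ho).1)
  have hmw : m ∈ Xw := by
    rw [eq_mul_inv_of_mul_eq e.symm]
    exact mul_mem hx (inv_mem (core_le _ ho))
  have hle : (core Xw ⊔ core CA).map (MulAut.conj m).toMonoidHom ≤ core Xw ⊔ core CA := by
    rw [Subgroup.map_sup]
    refine sup_le_sup ?_ ?_
    · rintro _ ⟨o', ho', rfl⟩; exact core_conj_mem hmw ho'
    · rintro _ ⟨o', ho', rfl⟩
      refine core_conj (fun t => ?_) ho'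
      simp only [hCA, Subgroup.mem_inf]
      refine and_congr ⟨fun h => X.mul_mem (X.mul_mem hmX h) (X.inv_mem hmX), fun h => ?_⟩
        ⟨fun h => Subgroup.mem_centralizer_iff.mpr fun a ha => ?_, fun h => Subgroup.mem_centralizer_iff.mpr fun a ha => ?_⟩
      · have := X.mul_mem (X.mul_mem (X.inv_mem hmX) h) hmX
        simpa [mul_assoc] using this
      · have h2 := Subgroup.mem_centralizer_iff.mp h _ ((Subgroup.mem_normalizer_iff''.mp hm a).mp ha)
        have := congrArg (fun t => m * t * m⁻¹) h2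
        simpa [mul_assoc] using this
      · have h2 := Subgroup.mem_centralizer_iff.mp h _ ((Subgroup.mem_normalizer_iff.mp hm a).mp ha)
        have := congrArg (fun t => m⁻¹ * t * m) h2
        simpa [mul_assoc] using this
  rw [e, show m * o * d * (m * o)⁻¹ = m * (o * d * o⁻¹) * m⁻¹ by group]
  exact hle ⟨o * d * o⁻¹, mul_mem (mul_mem (Subgroup.mem_sup_left ho) hd) (inv_mem (Subgroup.mem_sup_left ho)), rfl⟩

/-- The factorization of `X`. -/
theorem master (S : SC X A) {Z A' : Subgroup G} (hZA : Z ≤ A) (hZc : ∀ ζ ∈ Z, ∀ x ∈ X, ζ * x = x * ζ)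
    (hA' : A' ≤ A) (hA'Z : ∀ a ∈ A', a ∈ Z → a = 1) (hdec : ∀ a ∈ A, ∃ a' ∈ A', ∃ ζ ∈ Z, a = a' * ζ)
    (h8 : 8 ≤ Nat.card A')
    (hC : ∀ w ∈ A, w ∉ Z → Ctl (X ⊓ Subgroup.centralizer ({w} : Set G)) (Subgroup.normalizer (A : Set G)))
    (hgood : ∀ B : Subgroup G, Z ≤ B → (∀ v ∈ A, Good X A Z v → v ∈ B) → A ≤ B) :
    Ctl X (Subgroup.normalizer (A : Set G)) := by
  classical
  have := Fact.mk Nat.prime_two
  set θ : G → Subgroup G := fun w => core (X ⊓ Subgroup.centralizer ({w} : Set G)) with hθ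
  have hinA : ∀ {a : G}, a ∈ A → ∀ w ∈ A, a ∈ X ⊓ Subgroup.centralizer ({w} : Set G) := fun ha w hw =>
    ⟨S.le ha, Subgroup.mem_centralizer_singleton_iff.mpr (S.comm _ ha w hw)⟩
  have hbal : ∀ a ∈ A', a ≠ 1 → ∀ b ∈ A', b ≠ 1 → θ a ⊓ Subgroup.centralizer ({b} : Set G) ≤ θ b := by
    intro a ha ha1 b hb hb1 d hd
    set D := θ a ⊓ Subgroup.centralizer ({b} : Set G)
    set Xb := X ⊓ Subgroup.centralizer ({b} : Set G)
    have hDX : D ≤ Xb := le_inf (inf_le_left.trans ((core_le _).trans inf_le_left)) inf_le_right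
    obtain ⟨n, hn, o, ho, e⟩ := hC b (hA' hb) (fun h => hb1 (hA'Z b hb h)) d (hDX hd)
    set D1 := θ b ⊔ D
    have hD1odd : Odd (Nat.card D1) := odd_sup (core_odd _) (odd_mono inf_le_left (core_odd _))
      fun e he t ht => core_conj_mem (hDX he) ht
    have hnD : n ∈ D1 := by
      rw [eq_mul_inv_of_mul_eq e.symm]
      exact mul_mem (Subgroup.mem_sup_right hd) (inv_mem (Subgroup.mem_sup_left ho))
    have hconj : ∀ α ∈ A, D1.map (MulAut.conj α).toMonoidHom ≤ D1 := fun α hα => by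
      rw [Subgroup.map_sup]
      refine sup_le_sup ?_ ?_
      · rintro _ ⟨t, ht, rfl⟩; exact core_conj_mem (hinA hα b (hA' hb)) ht
      · rintro _ ⟨t, ht, rfl⟩
        exact ⟨core_conj_mem (hinA hα a (hA' ha)) ht.1,
          Subgroup.mul_mem _ (Subgroup.mul_mem _ (hinA hα b (hA' hb)).2 ht.2) (Subgroup.inv_mem _ (hinA hα b (hA' hb)).2)⟩
    have hnA : ∀ α ∈ A, n * α = α * n := by
      intro α hα
      refine mul_comm_of_conj (inf_odd S.sq hD1odd (A.mul_mem ((Subgroup.mem_normalizer_iff.mp hn α).mp hα) hα) ?_)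
        (S.sq α hα)
      rw [show n * α * n⁻¹ * α = n * (α * n⁻¹ * α⁻¹) * (α * α) by group, S.sq α hα, mul_one]
      exact mul_mem hnD (hconj α hα ⟨n⁻¹, inv_mem hnD, rfl⟩)
    have hD1X : D1 ≤ Xb := sup_le (core_le _) hDX
    rw [e]
    exact mul_mem (centA_core S (hA' hb) (hC b (hA' hb) fun h => hb1 (hA'Z b hb h)) (hD1X hnD).1 hnA
      (odd_orderOf hD1odd hnD)) ho
  obtain ⟨hWodd, -⟩ := Cfsg.Agent.S0217.result (p := 2) A' (fun a ha b hb => S.comm a (hA' ha) b (hA' hb))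
    (fun a ha => by rw [pow_two]; exact S.sq a (hA' ha)) (by simpa using h8) θ
    (fun a _ _ => (core_le _).trans inf_le_right)
    (fun a _ _ h => Nat.not_even_iff_odd.mpr (core_odd _) (even_iff_two_dvd.mpr h))
    (fun a ha _ b hb x hx => core_conj_mem (hinA (hA' hb) a (hA' ha)) hx)
    (fun a _ _ => Cfsg.Agent.S0205.result (core_odd _)) hbal
  set W := ⨆ a : {a : G // a ∈ A' ∧ a ≠ 1}, θ a with hW
  have hWodd : Odd (Nat.card W) := Nat.odd_iff.mpr (Nat.two_dvd_ne_zero.mp hWodd)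
  have hθW : ∀ w ∈ A, w ∉ Z → θ w ≤ W := by
    intro w hw hwZ
    obtain ⟨a', ha', ζ, hζ, rfl⟩ := hdec w hw
    have hne : a' ≠ 1 := fun e => hwZ (by rw [e, one_mul]; exact hζ)
    have heq : X ⊓ Subgroup.centralizer ({a' * ζ} : Set G) = X ⊓ Subgroup.centralizer ({a'} : Set G) := by
      ext t
      simp only [Subgroup.mem_inf, Subgroup.mem_centralizer_singleton_iff]
      refine and_congr_right fun ht => ?_
      rw [← mul_assoc t a' ζ, mul_assoc a' ζ t, hZc ζ hζ t ht, ← mul_assoc a' t ζ, mul_left_inj]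
    simp only [hθ, heq]
    exact le_iSup (fun a : {a : G // a ∈ A' ∧ a ≠ 1} => θ a) ⟨a', ha', hne⟩
  have hWX : W ≤ X := iSup_le fun a => (core_le _).trans inf_le_left
  -- the first subgroup
  have hNW : X ⊓ Subgroup.normalizer (A : Set G) ≤ Subgroup.normalizer (W : Set G) := by
    intro n hn
    refine mem_normalizer_of_le fun x hx => ?_
    have hle : W ≤ W.comap (MulAut.conj n).toMonoidHom := iSup_le fun a t ht => by
      show n * t * n⁻¹ ∈ W
      have hA'' : n * (a : G) * n⁻¹ ∈ A := (Subgroup.mem_normalizer_iff.mp hn.2 a).mp (hA' a.2.1)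
      refine hθW _ hA'' (fun hZ => a.2.2 (hA'Z a a.2.1 ?_)) (core_conj (fun s => ?_) ht)
      · have h := hZc _ hZ n hn.1
        have e : n * (a : G) * n⁻¹ = a := by
          calc n * (a : G) * n⁻¹ = n⁻¹ * (n * (n * (a : G) * n⁻¹)) := by group
            _ = n⁻¹ * ((n * (a : G) * n⁻¹) * n) := by rw [h]
            _ = a := by group
        exact e ▸ hZ
      · simp only [Subgroup.mem_inf, Subgroup.mem_centralizer_singleton_iff]
        refine and_congr ⟨fun h => X.mul_mem (X.mul_mem hn.1 h) (X.inv_mem hn.1), fun h => ?_⟩ ?_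
        · have := X.mul_mem (X.mul_mem (X.inv_mem hn.1) h) hn.1
          simpa [mul_assoc] using this
        · rw [show n * s * n⁻¹ * (n * (a : G) * n⁻¹) = n * (s * a) * n⁻¹ by group,
            show n * (a : G) * n⁻¹ * (n * s * n⁻¹) = n * (a * s) * n⁻¹ by group, mul_left_inj, mul_right_inj]
    exact hle hx
  have hXW : X ≤ Subgroup.normalizer (W : Set G) := by
    refine (step S hZA hZc hC hgood (H := X ⊓ Subgroup.normalizer (W : Set G)) inf_le_left (le_inf inf_le_left hNW)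
      fun w hw hwZ x hx => ⟨hx.1, ?_⟩).trans inf_le_right
    obtain ⟨n, hn, o, ho, e⟩ := hC w hw hwZ x hx
    have hnX : n ∈ X := by
      rw [eq_mul_inv_of_mul_eq e.symm]
      exact X.mul_mem hx.1 (X.inv_mem (core_le _ ho).1)
    rw [SetLike.mem_coe, e]
    exact Subgroup.mul_mem _ (hNW ⟨hnX, hn⟩) (Subgroup.le_normalizer (hθW w hw hwZ ho))
  have hWcore : W ≤ core X := le_core hWX hWodd fun x hx t ht => (Subgroup.mem_normalizer_iff.mp (hXW hx) t).mp ht
  -- the second subgroup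
  let H : Subgroup G :=
    { carrier := {g | ∃ n ∈ X ⊓ Subgroup.normalizer (A : Set G), ∃ o ∈ core X, g = n * o}
      one_mem' := ⟨1, one_mem _, 1, one_mem _, (one_mul 1).symm⟩
      mul_mem' := by
        rintro _ _ ⟨n, hn, o, ho, rfl⟩ ⟨n', hn', o', ho', rfl⟩
        refine ⟨n * n', mul_mem hn hn', n'⁻¹ * o * n' * o', mul_mem ?_ ho', by group⟩
        simpa using core_conj_mem (X.inv_mem hn'.1) ho
      inv_mem' := by
        rintro _ ⟨n, hn, o, ho, rfl⟩
        exact ⟨n⁻¹, inv_mem hn, n * o⁻¹ * n⁻¹, core_conj_mem hn.1 (inv_mem ho), by group⟩ }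
  have hH := step S hZA hZc hC hgood (H := H)
    (by rintro _ ⟨n, hn, o, ho, rfl⟩; exact X.mul_mem hn.1 (core_le X ho))
    (fun n hn => ⟨n, hn, 1, one_mem _, (mul_one n).symm⟩) fun w hw hwZ x hx => by
      obtain ⟨n, hn, o, ho, e⟩ := hC w hw hwZ x hx
      refine ⟨n, ⟨?_, hn⟩, o, hWcore (hθW w hw hwZ ho), e⟩
      rw [eq_mul_inv_of_mul_eq e.symm]
      exact X.mul_mem hx.1 (X.inv_mem (core_le _ ho).1)
  intro g hg
  obtain ⟨n, hn, o, ho, e⟩ := hH hg
  exact ⟨n, hn.2, o, ho, e⟩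

end CfsgA8C
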