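/-
An elementary abelian Sylow 2-subgroup with a distinguished four-subgroup and an outer involution.
-/
import Cfsg.Agent.Lib.A8Classes.Master

set_option autoImplicit false

namespace CfsgA8C

open Cfsg Subgroup

variable {G : Type*} [Group G] [Finite G]

omit [Finite G] in
theorem of_two_odd {H : Subgroup G} {n : G} {k m : ℕ} (hm : Odd m) (he : orderOf n = 2 ^ k * m) (h1 : n ^ m ∈ H)
    (h2 : n ^ 2 ^ k ∈ H) : n ∈ H := by
  have hc : Nat.gcd (2 ^ k) m = 1 := (Nat.coprime_two_left.mpr hm).pow_left k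
  have h := Nat.gcd_eq_gcd_ab (2 ^ k) m
  rw [hc] at h
  rw [← zpow_one n, show (1 : ℤ) = ((2 ^ k : ℕ) : ℤ) * Nat.gcdA (2 ^ k) m + (m : ℤ) * Nat.gcdB (2 ^ k) m by
    simpa using h, zpow_add, zpow_mul, zpow_mul, zpow_natCast, zpow_natCast]
  exact H.mul_mem (H.zpow_mem h2 _) (H.zpow_mem h1 _)

variable {X U : Subgroup G}

/-- An element normalising the Sylow subgroup whose square centralizes it does so itself. -/
theorem sq_cent (hU : ∀ u ∈ U, u * u = 1) (hUc : ∀ u ∈ U, ∀ w ∈ U, u * w = w * u)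
    (hsyl : ∀ R : Subgroup G, U ≤ R → R ≤ X → IsPGroup 2 R → R ≤ U) (hUX : U ≤ X) {n : G} (hn : n ∈ X)
    (hnU : n ∈ Subgroup.normalizer (U : Set G)) (h : n * n ∈ Subgroup.centralizer (U : Set G)) :
    n ∈ Subgroup.centralizer (U : Set G) := by
  haveI := Fact.mk Nat.prime_two
  obtain ⟨k, m, hm, he⟩ := Nat.exists_eq_two_pow_mul_odd (orderOf_pos n).ne'
  refine of_two_odd hm he ?_ ?_
  · set y := n ^ m with hy
    have hyk : y ^ 2 ^ k = 1 := by rw [hy, ← pow_mul, mul_comm, ← he, pow_orderOf_eq_one]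
    have hR : IsPGroup 2 ↥(Subgroup.zpowers y ⊔ U) := by
      refine IsPGroup.to_sup_of_normal_right' ?_ (fun u => ⟨1, Subtype.ext (by simpa [pow_two] using hU u u.2)⟩)
        (Subgroup.zpowers_le.mpr (Subgroup.pow_mem _ hnU m))
      rintro ⟨z, hz⟩
      obtain ⟨j, rfl⟩ := Subgroup.mem_zpowers_iff.mp hz
      refine ⟨k, Subtype.ext ?_⟩
      show (y ^ j) ^ 2 ^ k = 1
      rw [← zpow_natCast, ← zpow_mul, mul_comm, zpow_mul, zpow_natCast, hyk, one_zpow]
    have hyU : y ∈ U := hsyl _ le_sup_right (sup_le (Subgroup.zpowers_le.mpr (X.pow_mem hn m)) hUX) hR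
      (Subgroup.mem_sup_left (Subgroup.mem_zpowers y))
    exact Subgroup.mem_centralizer_iff.mpr fun u hu => hUc u hu y hyU
  · cases k with
    | zero =>
      obtain ⟨j, hj⟩ := hm
      have h1 : (n * n) ^ (j + 1) = n := by
        rw [← pow_two, ← pow_mul, show 2 * (j + 1) = orderOf n + 1 by rw [he, hj]; omega, pow_succ, pow_orderOf_eq_one,
          one_mul]
      rw [pow_zero, pow_one, ← h1]
      exact Subgroup.pow_mem _ h _
    | succ k =>
      rw [show 2 ^ (k + 1) = 2 * 2 ^ k by ring, pow_mul, pow_two]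
      exact Subgroup.pow_mem _ h _

/-- The factorization, and the action of the outer involution on the normalizer. -/
theorem flat (hUX : U ≤ X) (hU : ∀ u ∈ U, u * u = 1) (hUc : ∀ u ∈ U, ∀ w ∈ U, u * w = w * u)
    (hsyl : ∀ R : Subgroup G, U ≤ R → R ≤ X → IsPGroup 2 R → R ≤ U) (h8 : 8 ≤ Nat.card U)
    (V : Subgroup G) (hVU : V ≤ U) (hV1 : ∃ v ∈ V, v ≠ 1) (hV2 : ∃ u ∈ U, u ∉ V)
    (hV4 : ∀ v ∈ V, ∀ w ∈ V, ∀ x ∈ V, v ≠ 1 → w ≠ 1 → w ≠ v → x = 1 ∨ x = v ∨ x = w ∨ x = v * w)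
    (hnc : ∀ v ∈ V, ∀ g ∈ X, g * v * g⁻¹ ∈ U → g * v * g⁻¹ ∈ V)
    (q : G) (hq : q * q = 1) (hqX : ∀ x ∈ X, q * x * q ∈ X) (hqV : ∀ v ∈ V, q * v * q = v)
    (hf : ∀ u ∈ U, u * (q * u * q) ∈ V) (hfix : ∀ u ∈ U, q * u * q = u → u ∈ V) :
    Ctl X (Subgroup.normalizer (U : Set G)) ∧
      ∀ n ∈ X, n ∈ Subgroup.normalizer (U : Set G) → ∃ u ∈ U, ∃ o ∈ core X, q * n * q * n⁻¹ = u * o := by
  have hqU : ∀ u ∈ U, q * u * q ∈ U := fun u hu => by
    rw [show q * u * q = u * u * (q * u * q) by rw [hU u hu, one_mul], mul_assoc]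
    exact U.mul_mem hu (hVU (hf u hu))
  have hqinv : q⁻¹ = q := invol_inv hq
  have hqN : q ∈ Subgroup.normalizer (U : Set G) := mem_normalizer_of_le fun u hu => by rw [hqinv]; exact hqU u hu
  have hnV : ∀ n ∈ X, n ∈ Subgroup.normalizer (U : Set G) → ∀ v ∈ V, n * v * n⁻¹ ∈ V := fun n hn hnU v hv =>
    hnc v hv n hn ((Subgroup.mem_normalizer_iff.mp hnU v).mp (hVU hv))
  have sqc : ∀ n ∈ X, n ∈ Subgroup.normalizer (U : Set G) → n * n ∈ Subgroup.centralizer (U : Set G) →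
      n ∈ Subgroup.centralizer (U : Set G) := fun n hn hnU h => sq_cent hU hUc hsyl hUX hn hnU h
  -- the commutator with `q` centralizes `U`
  have hc : ∀ n ∈ X, n ∈ Subgroup.normalizer (U : Set G) → q * n * q * n⁻¹ ∈ Subgroup.centralizer (U : Set G) := by
    intro n hn hnU
    set c := q * n * q * n⁻¹
    have hcN : c ∈ Subgroup.normalizer (U : Set G) := mul_mem (mul_mem (mul_mem hqN hnU) hqN) (inv_mem hnU)
    have hcV : ∀ v ∈ V, c * v * c⁻¹ = v := fun v hv => by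
      have h1 := hnV n⁻¹ (X.inv_mem hn) (inv_mem hnU) v hv
      rw [inv_inv] at h1
      calc c * v * c⁻¹ = q * (n * (q * (n⁻¹ * v * n) * q⁻¹) * n⁻¹) * q⁻¹ := by simp only [c]; group
        _ = q * (n * (n⁻¹ * v * n) * n⁻¹) * q := by rw [hqinv, hqV _ h1]
        _ = q * v * q := by group
        _ = v := hqV v hv
    refine sqc c (X.mul_mem (hqX n hn) (X.inv_mem hn)) hcN (Subgroup.mem_centralizer_iff.mpr fun u hu => ?_)
    set w := n⁻¹ * u * n
    have hwU : w ∈ U := (Subgroup.mem_normalizer_iff''.mp hnU u).mp hu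
    set v' := (u * (q * u * q)) * (n * (w * (q * w * q)) * n⁻¹)
    have hv1 := hnV n hn hnU _ (hf w hwU)
    have hv' : v' ∈ V := V.mul_mem (hf u hu) hv1
    have hqq : ∀ a ∈ U, q * a * q = a * (a * (q * a * q)) := fun a ha => by rw [← mul_assoc a a, hU a ha, one_mul]
    have e : c * u * c⁻¹ = u * v' := by
      calc c * u * c⁻¹ = q * (n * (q * w * q⁻¹) * n⁻¹) * q⁻¹ := by simp only [c, w]; group
        _ = q * (n * (w * (w * (q * w * q))) * n⁻¹) * q := by rw [hqinv, ← hqq w hwU]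
        _ = (q * u * q) * (q * (n * (w * (q * w * q)) * n⁻¹) * q) := by
          simp only [w]
          rw [show q * u * q * (q * (n * (n⁻¹ * u * n * (q * (n⁻¹ * u * n) * q)) * n⁻¹) * q) =
            q * u * (q * q) * (n * (n⁻¹ * u * n * (q * (n⁻¹ * u * n) * q)) * n⁻¹) * q by group, hq]
          group
        _ = (u * (u * (q * u * q))) * (n * (w * (q * w * q)) * n⁻¹) := by rw [hqV _ hv1, ← hqq u hu]
        _ = u * v' := by simp only [v', mul_assoc]
    refine (mul_inv_eq_iff_eq_mul.mp ?_).symm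
    calc c * c * u * (c * c)⁻¹ = c * (c * u * c⁻¹) * c⁻¹ := by group
      _ = c * (u * v') * c⁻¹ := by rw [e]
      _ = (c * u * c⁻¹) * (c * v' * c⁻¹) := by group
      _ = u := by rw [e, hcV v' hv', mul_assoc, hU v' (hVU hv'), mul_one]
  have hcomm : ∀ n ∈ X, n ∈ Subgroup.normalizer (U : Set G) → ∀ u ∈ U,
      n * (q * u * q) * n⁻¹ = q * (n * u * n⁻¹) * q := fun n hn hnU u hu => by
    have h := mul_inv_eq_iff_eq_mul.mpr (Subgroup.mem_centralizer_iff.mp (hc n hn hnU) _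
      ((Subgroup.mem_normalizer_iff.mp hnU _).mp (hqU u hu))).symm
    calc n * (q * u * q) * n⁻¹ = (q * n * q * n⁻¹) * (n * (q * u * q) * n⁻¹) * (q * n * q * n⁻¹)⁻¹ := h.symm
      _ = q * n * (q * q) * u * (q * q⁻¹) * n⁻¹ * q⁻¹ := by group
      _ = q * (n * u * n⁻¹) * q := by rw [hq, hqinv, hq]; group
  -- fixing one element
  have hfixc : ∀ n ∈ X, n ∈ Subgroup.normalizer (U : Set G) → ∀ u ∈ U, u ≠ 1 → n * u * n⁻¹ = u →
      n ∈ Subgroup.centralizer (U : Set G) := by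
    intro n hn hnU u hu hu1 hnu
    obtain ⟨v, hv, hv1, hnv⟩ : ∃ v ∈ V, v ≠ 1 ∧ n * v * n⁻¹ = v := by
      by_cases huV : u ∈ V
      · exact ⟨u, huV, hu1, hnu⟩
      · refine ⟨_, hf u hu, fun h => huV (hfix u hu ?_), ?_⟩
        · rw [mul_eq_one_iff_inv_eq, invol_inv (hU u hu)] at h; exact h.symm
        · rw [show n * (u * (q * u * q)) * n⁻¹ = n * u * n⁻¹ * (n * (q * u * q) * n⁻¹) by group,
            hcomm n hn hnU u hu, hnu]
    have h2 : ∀ w ∈ V, n * n * w * (n * n)⁻¹ = w := by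
      intro w hw
      rw [show n * n * w * (n * n)⁻¹ = n * (n * w * n⁻¹) * n⁻¹ by group]
      by_cases hw1 : w = 1
      · subst hw1; group
      by_cases hwv : w = v
      · subst hwv; rw [hnv, hnv]
      rcases hV4 v hv w hw _ (hnV n hn hnU w hw) hv1 hw1 hwv with e | e | e | e
      · exact absurd (conj_eq_one_iff.mp e) hw1
      · exact absurd (mul_left_cancel (mul_right_cancel (e.trans hnv.symm))) hwv
      · rw [e, e]
      · rw [e, show n * (v * w) * n⁻¹ = n * v * n⁻¹ * (n * w * n⁻¹) by group, hnv, e, ← mul_assoc, hU v (hVU hv),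
          one_mul]
    have hmX : n * n ∈ X := X.mul_mem hn hn
    have hmU : n * n ∈ Subgroup.normalizer (U : Set G) := Subgroup.mul_mem _ hnU hnU
    refine sqc n hn hnU (sqc _ hmX hmU (Subgroup.mem_centralizer_iff.mpr fun a ha => ?_))
    set m := n * n
    set b := m * a * m⁻¹
    have hb : b ∈ U := (Subgroup.mem_normalizer_iff.mp hmU a).mp ha
    have he : b * (q * b * q) = a * (q * a * q) := by
      rw [← hcomm m hmX hmU a ha, ← h2 _ (hf a ha)]
      simp only [b]; group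
    have hd : b * a ∈ V := by
      refine hfix _ (U.mul_mem hb ha) ?_
      have e1 : q * b * q = b * (a * (q * a * q)) := by rw [← he, ← mul_assoc b b, hU b hb, one_mul]
      calc q * (b * a) * q = q * b * (q * q) * a * q := by rw [hq]; group
        _ = (q * b * q) * (q * a * q) := by group
        _ = b * a * ((q * a * q) * (q * a * q)) := by rw [e1]; group
        _ = b * a := by rw [hU _ (hqU a ha), mul_one]
    have hm2 : m * b * m⁻¹ = a := by
      have e1 : m * (b * a) * m⁻¹ = b * a := h2 _ hd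
      have e2 : m * b * m⁻¹ * b = b * a := by rw [← e1]; simp only [b]; group
      calc m * b * m⁻¹ = m * b * m⁻¹ * (b * b) := by rw [hU b hb, mul_one]
        _ = (b * a) * b := by rw [← e2]; group
        _ = a := by rw [hUc b hb a ha, mul_assoc, hU b hb, mul_one]
    refine (mul_inv_eq_iff_eq_mul.mp ?_).symm
    calc m * m * a * (m * m)⁻¹ = m * b * m⁻¹ := by simp only [b]; group
      _ = a := hm2
  -- the master lemma
  have S : SC X U := by
    have hN : ∀ y ∈ X, y ∈ Subgroup.normalizer (U : Set G) → y * y = 1 → y ∈ U := fun y hy hyN hyy => by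
      haveI := Fact.mk Nat.prime_two
      refine hsyl _ le_sup_right (sup_le (Subgroup.zpowers_le.mpr hy) hUX)
        (IsPGroup.to_sup_of_normal_right' ?_ (fun u => ⟨1, Subtype.ext (by simpa [pow_two] using hU u u.2)⟩)
          (Subgroup.zpowers_le.mpr hyN)) (Subgroup.mem_sup_left (Subgroup.mem_zpowers y))
      rintro ⟨z, hz⟩
      obtain ⟨j, rfl⟩ := Subgroup.mem_zpowers_iff.mp hz
      refine ⟨1, Subtype.ext ?_⟩
      show (y ^ j) ^ 2 ^ 1 = 1
      rw [pow_one, pow_two, ← zpow_add, ← two_mul, zpow_mul, zpow_two, hyy, one_zpow]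
    refine ⟨hUX, hU, hUc, fun a ha g hg h => hN _ (X.mul_mem (X.mul_mem hg (hUX ha)) (X.inv_mem hg)) h ?_,
      fun R h1 h2 h3 => (hsyl R h1 h2 h3).trans Subgroup.le_normalizer, ?_⟩
    · rw [show g * a * g⁻¹ * (g * a * g⁻¹) = g * (a * a) * g⁻¹ by group, hU a ha]; group
    · intro c hc hca ⟨k, hk⟩
      haveI := Fact.mk Nat.prime_two
      refine hsyl _ le_sup_right (sup_le (Subgroup.zpowers_le.mpr hc) hUX)
        (IsPGroup.to_sup_of_normal_right' ?_ (fun u => ⟨1, Subtype.ext (by simpa [pow_two] using hU u u.2)⟩)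
          (Subgroup.zpowers_le.mpr (mem_normalizer_of_le fun a ha => by
            rw [hca a ha, mul_inv_cancel_right]; exact ha))) (Subgroup.mem_sup_left (Subgroup.mem_zpowers c))
      rintro ⟨z, hz⟩
      obtain ⟨j, rfl⟩ := Subgroup.mem_zpowers_iff.mp hz
      refine ⟨k, Subtype.ext ?_⟩
      show (c ^ j) ^ 2 ^ k = 1
      rw [← zpow_natCast, ← zpow_mul, mul_comm, zpow_mul, zpow_natCast, hk, one_zpow]
  have hCU : ∀ w ∈ U, w ≠ 1 → Ctl (X ⊓ Subgroup.centralizer ({w} : Set G)) U := fun w hw hw1 =>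
    burnside2 (fun a ha => ⟨hUX ha, Subgroup.mem_centralizer_singleton_iff.mpr (hUc a ha w hw)⟩) hU
      (fun R h1 h2 h3 => hsyl R h1 (h2.trans inf_le_left) h3) fun n hn hnU a ha => mul_inv_eq_iff_eq_mul.mpr
        (Subgroup.mem_centralizer_iff.mp (hfixc n hn.1 (mem_normalizer_of_le hnU) w hw hw1
          (mul_inv_eq_iff_eq_mul.mpr (Subgroup.mem_centralizer_singleton_iff.mp hn.2))) a ha).symm
  obtain ⟨v0, hv0, hv01⟩ := hV1
  obtain ⟨u0, hu0, hu0V⟩ := hV2
  have hX : Ctl X (Subgroup.normalizer (U : Set G)) := by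
    refine master S (Z := ⊥) (A' := U) bot_le (fun ζ hζ x _ => by rw [Subgroup.mem_bot.mp hζ, one_mul, mul_one]) le_rfl
      (fun a _ ha => Subgroup.mem_bot.mp ha) (fun a ha => ⟨a, ha, 1, one_mem _, (mul_one a).symm⟩) h8 ?_ ?_
    · intro w hw hwZ g hg
      obtain ⟨n, hn, o, ho, e⟩ := hCU w hw (fun h => hwZ (Subgroup.mem_bot.mpr h)) g hg
      exact ⟨n, Subgroup.le_normalizer hn, o, ho, e⟩
    · intro B _ hB a ha
      refine hB a ha ?_
      by_cases haV : a ∈ V
      · exact ⟨u0, hu0, fun h => hu0V (Subgroup.mem_bot.mp h ▸ V.one_mem), fun g hg e => hu0V (by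
          rw [show u0 = g⁻¹ * a * g⁻¹⁻¹ by rw [← e]; group]
          exact hnc a haV g⁻¹ (X.inv_mem hg) (by rw [← e]; convert hu0 using 1; group)),
          fun ζ hζ h1 => absurd (Subgroup.mem_bot.mp hζ) h1⟩
      · exact ⟨v0, hVU hv0, fun h => hv01 (Subgroup.mem_bot.mp h), fun g hg e => haV (e ▸ hnc v0 hv0 g hg (e.symm ▸ ha)),
          fun ζ hζ h1 => absurd (Subgroup.mem_bot.mp hζ) h1⟩
  refine ⟨hX, fun n hn hnU => ?_⟩
  have hcc := hc n hn hnU
  set c := q * n * q * n⁻¹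
  have hcX : c ∈ X := X.mul_mem (hqX n hn) (X.inv_mem hn)
  obtain ⟨u, hu, o, ho, e⟩ := burnside2 (X := X ⊓ Subgroup.centralizer (U : Set G)) (A := U)
    (fun a ha => ⟨hUX ha, Subgroup.mem_centralizer_iff.mpr fun b hb => hUc b hb a ha⟩) hU
    (fun R h1 h2 h3 => hsyl R h1 (h2.trans inf_le_left) h3)
    (fun m hm _ a ha => mul_inv_eq_iff_eq_mul.mpr (Subgroup.mem_centralizer_iff.mp hm.2 a ha).symm) c ⟨hcX, hcc⟩
  refine ⟨u, hu, o, ?_, e⟩
  have h1 : X ⊓ Subgroup.centralizer ({(1 : G)} : Set G) = X :=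
    inf_eq_left.mpr fun x _ => Subgroup.mem_centralizer_singleton_iff.mpr (by rw [one_mul, mul_one])
  have := centA_core S (w := 1) U.one_mem (h1.symm ▸ hX) (core_le _ ho).1
    (fun a ha => (Subgroup.mem_centralizer_iff.mp (core_le _ ho).2 a ha).symm) (odd_orderOf (core_odd _) ho)
  rwa [h1] at this

end CfsgA8C
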