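/-
Faithful actions of the alternating group of degree five on a group of order sixteen and exponent two, and the
centre of a Sylow 2-subgroup of the alternating group of degree eight.
-/
import Cfsg.Agent.Lib.AltSection.SylowA8
import Mathlib

set_option autoImplicit false
set_option maxRecDepth 100000

namespace CfsgA8C

open Equiv

/-- The codes of the central elements of the Sylow subgroup of order 64. -/
def centCodes : List ℕ :=
  CfsgLib.AltSection.a8Codes.filter fun c =>
    [16434369, 16433690, 14571144, 11789960, 16406145, 6852524].all fun g =>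
      decide (CfsgLib.AltSection.mulC g c = CfsgLib.AltSection.mulC c g)

theorem centCodes_len : centCodes.length ≤ 8 := by decide +kernel

/-- The centre of a Sylow 2-subgroup of `A₈` has fewer than 16 elements. -/
theorem center_small (P : Sylow 2 (alternatingGroup (Fin 8))) {B : Type*} (f : B → ↥(P : Subgroup (alternatingGroup (Fin 8))))
    (hf : Function.Injective f) (hc : ∀ b y, y * f b = f b * y) : Nat.card B ≤ 8 := by
  haveI := Fact.mk Nat.prime_two
  set Q : Subgroup (alternatingGroup (Fin 8)) := CfsgLib.AltSection.a8Two.subgroupOf _ with hQ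
  let e : Q ≃* CfsgLib.AltSection.a8Two := Subgroup.subgroupOfEquivOfLe CfsgLib.AltSection.a8Two_le
  have hQ64 : Nat.card Q = 64 := (Nat.card_congr e.toEquiv).trans CfsgLib.AltSection.card_a8Two
  have hA8 : Nat.card (alternatingGroup (Fin 8)) = 20160 := by
    rw [nat_card_alternatingGroup, Nat.card_eq_fintype_card, Fintype.card_fin]; decide
  have hidx : ¬ 2 ∣ Q.index := by
    have := Q.card_mul_index
    rw [hQ64, hA8] at this
    omega
  let e' := (Sylow.equiv P ((IsPGroup.of_card (n := 6) hQ64).toSylow hidx)).trans e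
  have hmem : ∀ b, CfsgLib.AltSection.code (e' (f b) : Perm (Fin 8)) ∈ centCodes.toFinset := fun b => by
    have hx := CfsgLib.AltSection.mem_a8Two_iff.mp (e' (f b)).2
    simp only [centCodes, List.mem_toFinset, List.mem_filter, List.all_eq_true, decide_eq_true_eq]
    refine ⟨CfsgLib.AltSection.code_mem hx, fun g hg => ?_⟩
    rw [← CfsgLib.AltSection.a8Gens_code] at hg
    obtain ⟨y, hy, rfl⟩ := List.mem_map.mp hg
    rw [← CfsgLib.AltSection.code_mul, ← CfsgLib.AltSection.code_mul]
    obtain ⟨z, hz⟩ := e'.surjective ⟨y, Subgroup.subset_closure hy⟩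
    have := congrArg (fun w => ((e' w : CfsgLib.AltSection.a8Two) : Perm (Fin 8))) (hc b z)
    simp only [map_mul, hz, Subgroup.coe_mul] at this
    rw [this]
  have := Nat.card_le_card_of_injective (fun b => (⟨_, hmem b⟩ : centCodes.toFinset)) fun a b h =>
    hf (e'.injective (Subtype.ext (CfsgLib.AltSection.code_injective (congrArg Subtype.val h))))
  rw [Nat.card_eq_finsetCard] at this
  exact this.trans ((List.toFinset_card_le _).trans centCodes_len)

/-- The alternating group of degree five. -/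
abbrev Q5 := alternatingGroup (Fin 5)

variable {A : Type*} [Group A] (φ : Q5 →* MulAut A)

/-- The orbit relation of an action by automorphisms. -/
def orel : Setoid A := @MulAction.orbitRel Q5 A _ (MulAction.compHom A φ)

theorem orel_iff {a b : A} : orel φ a b ↔ ∃ q, φ q b = a := Iff.rfl

/-- The orbits. -/
abbrev Orbs := Quotient (orel φ)

variable [Finite A] (hsq : ∀ a : A, a * a = 1) (hcomm : ∀ a b : A, a * b = b * a) (h16 : Nat.card A = 16)
  (hφ : Function.Injective φ)

/-- The fixed subgroup of an element. -/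
def fixd (q : Q5) : Subgroup A := (φ q).toMonoidHom.eqLocus (MonoidHom.id A)

omit [Finite A] in
theorem mem_fixd {q : Q5} {a : A} : a ∈ fixd φ q ↔ φ q a = a := Iff.rfl

include h16

theorem fixd_dvd (q : Q5) : Nat.card (fixd φ q) ∣ 16 := h16 ▸ Subgroup.card_subgroup_dvd_card _

theorem fixd_modEq {q : Q5} {p : ℕ} [Fact p.Prime] (hq : orderOf q = p) :
    16 ≡ Nat.card (fixd φ q) [MOD p] := by
  letI : MulAction Q5 A := MulAction.compHom A φ
  have hP : IsPGroup p (Subgroup.zpowers q) := IsPGroup.of_card (n := 1) (by rw [Nat.card_zpowers, hq, pow_one])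
  have e : MulAction.fixedPoints (Subgroup.zpowers q) A = (fixd φ q : Set A) := by
    ext a
    refine ⟨fun h => h ⟨q, Subgroup.mem_zpowers q⟩, fun h g => ?_⟩
    have : q ∈ MulAction.stabilizer Q5 a := h
    exact (Subgroup.zpowers_le.mpr this) g.2
  have := hP.card_modEq_card_fixedPoints A
  rw [h16, e] at this
  exact this

include hφ

theorem fixd_ne_top {q : Q5} (hq : q ≠ 1) : Nat.card (fixd φ q) ≠ 16 := fun h => by
  have ht : fixd φ q = ⊤ := Subgroup.eq_top_of_card_eq _ (h.trans h16.symm)
  refine hq (hφ ?_)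
  rw [map_one]
  exact MulEquiv.ext fun a => (mem_fixd φ).mp (ht ▸ Subgroup.mem_top a)

theorem fixd_five {q : Q5} (h5 : q ^ 5 = 1) (hq : q ≠ 1) {a : A} (ha : φ q a = a) : a = 1 := by
  haveI := Fact.mk (by norm_num : Nat.Prime 5)
  have h := fixd_modEq φ h16 (orderOf_eq_prime h5 hq)
  have hne := fixd_ne_top φ h16 hφ hq
  have hd := fixd_dvd φ h16 q
  have : Nat.card (fixd φ q) ∈ Nat.divisors 16 := Nat.mem_divisors.mpr ⟨hd, by norm_num⟩
  have hd' : Nat.divisors 16 = {1, 2, 4, 8, 16} := by decide
  rw [hd'] at this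
  simp only [Finset.mem_insert, Finset.mem_singleton] at this
  have h1 : Nat.card (fixd φ q) = 1 := by
    rcases this with e | e | e | e | e <;> first | exact e | exact absurd e hne | (rw [e] at h; exact absurd h (by decide))
  exact (Subgroup.eq_bot_iff_forall _).mp (Subgroup.card_eq_one.mp h1) a ((mem_fixd φ).mpr ha)

include hsq hcomm in
theorem fixd_invol {t : Q5} (ht : t * t = 1) (ht1 : t ≠ 1) :
    Nat.card (fixd φ t) = 4 ∧ ∀ a, φ t a = a → ∃ b, b * φ t b = a := by
  have key : ∀ s : Q5, s * s = 1 → ∃ f : A →* A, f.ker = fixd φ s ∧ f.range ≤ fixd φ s ∧ ∀ b, f b = b * φ s b := by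
    intro s hs
    have hss : ∀ a, φ s (φ s a) = a := fun a => by rw [← MulAut.mul_apply, ← map_mul, hs, map_one, MulAut.one_apply]
    refine ⟨MonoidHom.mk' (fun b => b * φ s b) fun a b => ?_, ?_, ?_, fun b => rfl⟩
    · rw [map_mul, mul_assoc a, ← mul_assoc b, hcomm b, mul_assoc (φ s a), ← mul_assoc]
    · ext a
      show a * φ s a = 1 ↔ φ s a = a
      rw [mul_eq_one_iff_inv_eq, inv_eq_of_mul_eq_one_right (hsq a)]
      exact eq_comm
    · rintro _ ⟨b, rfl⟩
      show φ s (b * φ s b) = b * φ s b
      rw [map_mul, hss, hcomm]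
  have four : ∀ s : Q5, s * s = 1 → 4 ≤ Nat.card (fixd φ s) := fun s hs => by
    obtain ⟨f, hk, hr, -⟩ := key s hs
    have h : Nat.card f.ker * Nat.card f.range = 16 := by
      rw [← f.ker.card_mul_index.trans h16, Subgroup.index_ker]
    rw [hk] at h
    have := Subgroup.card_le_of_le hr
    nlinarith
  have h4 : Nat.card (fixd φ t) = 4 := by
    have hdec : ∀ t : Q5, t * t = 1 → t ≠ 1 → ∃ s, s * s = 1 ∧ (t * s) ^ 5 = 1 ∧ t * s ≠ 1 := by decide +kernel
    obtain ⟨s, hs, h5, hts⟩ := hdec t ht ht1
    have hne := fixd_ne_top φ h16 hφ ht1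
    have hd : Nat.card (fixd φ t) ∈ Nat.divisors 16 := Nat.mem_divisors.mpr ⟨fixd_dvd φ h16 t, by norm_num⟩
    have h4 := four t ht
    have hd' : Nat.divisors 16 = {1, 2, 4, 8, 16} := by decide
    rw [hd'] at hd
    simp only [Finset.mem_insert, Finset.mem_singleton] at hd
    rcases hd with e | e | e | e | e <;> try omega
    exfalso
    -- two big subgroups meet
    set U := fixd φ t
    set V := fixd φ s
    have hbot : Disjoint U V := disjoint_iff.mpr ((Subgroup.eq_bot_iff_forall _).mpr fun a ha =>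
      fixd_five φ h16 hφ h5 hts (show φ (t * s) a = a by
        rw [map_mul, MulAut.mul_apply, (mem_fixd φ).mp ha.2, (mem_fixd φ).mp ha.1]))
    have := Nat.card_le_card_of_injective (fun p : U × V => (p.1 : A) * p.2) (Subgroup.mul_injective_of_disjoint hbot)
    rw [Nat.card_prod, e, h16] at this
    have : 4 ≤ Nat.card V := four s hs
    omega
  refine ⟨h4, fun a ha => ?_⟩
  obtain ⟨f, hk, hr, hf⟩ := key t ht
  have h : Nat.card f.ker * Nat.card f.range = 16 := by
    rw [← f.ker.card_mul_index.trans h16, Subgroup.index_ker]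
  rw [hk, h4] at h
  have he := Subgroup.eq_of_le_of_card_ge hr (by omega)
  obtain ⟨b, hb⟩ := (he ▸ (mem_fixd φ).mpr ha : a ∈ f.range)
  exact ⟨b, (hf b).symm.trans hb⟩

include hsq hcomm in
theorem fixd_bound (q : Q5) : Nat.card (fixd φ q) ≤ if q = 1 then 16 else if q ^ 5 = 1 then 1 else 4 := by
  split_ifs with h1 h5
  · exact Nat.le_of_dvd (by norm_num) (fixd_dvd φ h16 q)
  · exact le_of_eq (Subgroup.card_eq_one.mpr ((Subgroup.eq_bot_iff_forall _).mpr fun a ha =>
      fixd_five φ h16 hφ h5 h1 ((mem_fixd φ).mp ha)))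
  · have hdec : ∀ q : Q5, q ≠ 1 → q ^ 5 ≠ 1 → q * q = 1 ∨ q ^ 3 = 1 := by decide +kernel
    rcases hdec q h1 h5 with h | h
    · exact le_of_eq (fixd_invol φ hsq hcomm h16 hφ h h1).1
    · haveI := Fact.mk Nat.prime_three
      have hm := fixd_modEq φ h16 (orderOf_eq_prime h h1)
      have hne := fixd_ne_top φ h16 hφ h1
      have hd : Nat.card (fixd φ q) ∈ Nat.divisors 16 := Nat.mem_divisors.mpr ⟨fixd_dvd φ h16 q, by norm_num⟩
      have hd' : Nat.divisors 16 = {1, 2, 4, 8, 16} := by decide
      rw [hd'] at hd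
      simp only [Finset.mem_insert, Finset.mem_singleton] at hd
      rcases hd with e | e | e | e | e <;> first | omega | (rw [e] at hm; exact absurd hm (by decide))

include hsq hcomm in
theorem card_orbs_le : Nat.card (Orbs φ) ≤ 3 := by
  classical
  letI : MulAction Q5 A := MulAction.compHom A φ
  haveI := Fintype.ofFinite A
  have hsum := MulAction.sum_card_fixedBy_eq_card_orbits_mul_card_group Q5 A
  have hle : ∀ q : Q5, Fintype.card (MulAction.fixedBy A q) ≤ if q = 1 then 16 else if q ^ 5 = 1 then 1 else 4 :=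
    fun q => by rw [← Nat.card_eq_fintype_card]; exact fixd_bound φ hsq hcomm h16 hφ q
  have h180 : (∑ q : Q5, if q = 1 then 16 else if q ^ 5 = 1 then 1 else 4) = 180 := by decide +kernel
  have h60 : Fintype.card Q5 = 60 := by decide +kernel
  have := (Finset.sum_le_sum fun q _ => hle q).trans_eq h180
  rw [hsum, h60] at this
  show Nat.card (Quotient (MulAction.orbitRel Q5 A)) ≤ 3
  rw [Nat.card_eq_fintype_card]
  omega

/-- The orbit of five elements. -/
theorem five_orbit (h3 : Nat.card (Orbs φ) = 3) : ∃ (ι : Fin 5 → A) (τ : Q5 →* Perm (Fin 5)),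
    Function.Injective ι ∧ (∀ i, ι i ≠ 1) ∧ Function.Injective τ ∧ τ.range = alternatingGroup (Fin 5) ∧
      (∀ q i, φ q (ι i) = ι (τ q i)) := by
  classical
  letI : MulAction Q5 A := MulAction.compHom A φ
  haveI := Fintype.ofFinite A
  change Nat.card (Quotient (MulAction.orbitRel Q5 A)) = 3 at h3
  have h5 : ∀ a : A, a ≠ 1 → 5 ∣ Nat.card (MulAction.orbit Q5 a) := fun a ha => by
    haveI := Fact.mk (by norm_num : Nat.Prime 5)
    have hst : ¬ 5 ∣ Nat.card (MulAction.stabilizer Q5 a) := fun h => by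
      obtain ⟨x, hx⟩ := exists_prime_orderOf_dvd_card' 5 h
      refine ha (fixd_five φ h16 hφ (q := x) ?_ ?_ x.2)
      · have := pow_orderOf_eq_one x
        rw [hx] at this
        simpa using congrArg Subtype.val this
      · intro e; rw [← Subgroup.orderOf_coe, e, orderOf_one] at hx; omega
    have hc := (MulAction.stabilizer Q5 a).card_mul_index
    rw [MulAction.index_stabilizer, ← Nat.card_coe_set_eq,
      show Nat.card Q5 = 60 by rw [Nat.card_eq_fintype_card]; decide +kernel] at hc
    exact ((by norm_num : Nat.Prime 5).dvd_mul.mp (hc ▸ by norm_num)).resolve_left hst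
  -- some orbit has five elements
  obtain ⟨a, ha1, ha5⟩ : ∃ a : A, a ≠ 1 ∧ Nat.card (MulAction.orbit Q5 a) = 5 := by
    rw [Nat.card_eq_fintype_card] at h3
    have hsum := Nat.card_congr (MulAction.selfEquivSigmaOrbits Q5 A)
    rw [h16, Nat.card_sigma] at hsum
    set K := Quotient (MulAction.orbitRel Q5 A)
    let k0 : K := Quotient.mk'' 1
    have hout1 : ∀ k : K, k ≠ k0 → Quotient.out k ≠ 1 := fun k hk e => hk (by rw [← Quotient.out_eq' k, e])
    have h0 : Nat.card (MulAction.orbit Q5 (Quotient.out k0)) = 1 := by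
      obtain ⟨q, hq⟩ := (orel_iff φ).mp (Quotient.exact (Quotient.out_eq k0))
      have he : Quotient.out k0 = 1 := by rw [← hq, map_one]
      rw [he, Nat.card_coe_set_eq]
      refine (Set.ncard_eq_one).mpr ⟨1, ?_⟩
      ext b
      refine ⟨?_, fun hb => hb ▸ MulAction.mem_orbit_self _⟩
      rintro ⟨q, rfl⟩
      exact map_one (φ q)
    obtain ⟨k1, k2, h12, he⟩ := Finset.card_eq_two.mp (show ((Finset.univ : Finset K).erase k0).card = 2 by
      rw [Finset.card_erase_of_mem (Finset.mem_univ _), Finset.card_univ, h3])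
    rw [← Finset.add_sum_erase _ _ (Finset.mem_univ k0), h0, he, Finset.sum_pair h12] at hsum
    have h1 : k1 ≠ k0 := fun e => by
      have : k1 ∈ ({k1, k2} : Finset K) := Finset.mem_insert_self _ _
      rw [← he, Finset.mem_erase] at this
      exact this.1 e
    have h2 : k2 ≠ k0 := fun e => by
      have : k2 ∈ ({k1, k2} : Finset K) := Finset.mem_insert_of_mem (Finset.mem_singleton_self _)
      rw [← he, Finset.mem_erase] at this
      exact this.1 e
    obtain ⟨m1, hm1⟩ := h5 _ (hout1 k1 h1)
    obtain ⟨m2, hm2⟩ := h5 _ (hout1 k2 h2)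
    have p1 : 0 < Nat.card (MulAction.orbit Q5 (Quotient.out k1)) :=
      haveI := (MulAction.nonempty_orbit (M := Q5) (Quotient.out k1)).to_subtype
      Nat.card_pos
    have p2 : 0 < Nat.card (MulAction.orbit Q5 (Quotient.out k2)) :=
      haveI := (MulAction.nonempty_orbit (M := Q5) (Quotient.out k2)).to_subtype
      Nat.card_pos
    by_cases hm : m1 = 1
    · exact ⟨_, hout1 k1 h1, by rw [hm1, hm]⟩
    · exact ⟨_, hout1 k2 h2, by rw [hm2, show m2 = 1 by omega]⟩
  let e := Finite.equivFinOfCardEq ha5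
  let τ : Q5 →* Perm (Fin 5) := e.permCongrHom.toMonoidHom.comp (MulAction.toPermHom Q5 (MulAction.orbit Q5 a))
  have hτ : ∀ q i, φ q (e.symm i : A) = (e.symm (τ q i) : A) := fun q i => by
    show _ = ((e.symm (e (q • e.symm i))) : A)
    rw [Equiv.symm_apply_apply]; rfl
  have hne : ∀ i, (e.symm i : A) ≠ 1 := fun i h => by
    obtain ⟨q, hq⟩ := (e.symm i).2
    change φ q a = _ at hq
    rw [h] at hq
    exact ha1 ((φ q).injective (hq.trans (map_one (φ q)).symm))
  have hinj : Function.Injective τ := by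
    rw [← MonoidHom.ker_eq_bot_iff]
    haveI : IsSimpleGroup Q5 := alternatingGroup.isSimpleGroup_five
    refine (Subgroup.Normal.eq_bot_or_eq_top inferInstance).resolve_right fun htop => ?_
    obtain ⟨q, hq5, hq1⟩ : ∃ q : Q5, q ^ 5 = 1 ∧ q ≠ 1 := by decide +kernel
    refine hne 0 (fixd_five φ h16 hφ hq5 hq1 ?_)
    rw [hτ, MonoidHom.mem_ker.mp (htop ▸ Subgroup.mem_top q : q ∈ τ.ker)]
    rfl
  refine ⟨fun i => e.symm i, τ, Subtype.val_injective.comp e.symm.injective, hne, hinj, ?_, hτ⟩
  refine Equiv.Perm.eq_alternatingGroup_of_index_eq_two ?_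
  have h := τ.range.card_mul_index
  rw [← Nat.card_congr (MonoidHom.ofInjective hinj).toEquiv,
    show Nat.card Q5 = 60 by rw [Nat.card_eq_fintype_card]; decide +kernel,
    Nat.card_perm, Nat.card_eq_fintype_card, Fintype.card_fin, show Nat.factorial 5 = 120 by decide] at h
  omega

end CfsgA8C
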