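/-
The normalizer of the elementary abelian subgroup of order 16: labels and fusion.
-/
import Cfsg.Agent.Lib.A8Classes.Master
import Cfsg.Agent.Lib.A8Classes.Orbits

set_option autoImplicit false

namespace CfsgA8C

open Cfsg Subgroup
open scoped symmDiff

/-- The labelled configuration. -/
structure Model (G : Type*) [Group G] where
  A : Subgroup G
  ev : Finset (Fin 5) → G
  mem : ∀ s, ev s ∈ A
  add : ∀ s s', ev s * ev s' = ev (s ∆ s')
  inj : ∀ s, ev s = 1 → s = ∅ ∨ s = Finset.univ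
  one_univ : ev Finset.univ = 1
  surj : ∀ a ∈ A, ∃ s, ev s = a
  σ : ↥(Subgroup.normalizer (A : Set G)) →* Equiv.Perm (Fin 5)
  conj : ∀ (n : ↥(Subgroup.normalizer (A : Set G))) s, (n : G) * ev s * (n : G)⁻¹ = ev (s.image (σ n))
  sign : ∀ n, Equiv.Perm.sign (σ n) = 1
  lift : ∀ p, Equiv.Perm.sign p = 1 → ∃ n, σ n = p
  ker : ∀ n, σ n = 1 → ∃ a ∈ A, ∃ o ∈ core (Subgroup.centralizer (A : Set G)), (n : G) = a * o
  syl : ∀ P : Subgroup G, A ≤ P → IsPGroup 2 P → P ≤ Subgroup.normalizer (A : Set G)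
  fus : ∀ x ∈ Subgroup.normalizer (A : Set G), x * x = 1 → x ≠ 1 → ∀ g : G,
    g * x * g⁻¹ ∈ Subgroup.normalizer (A : Set G) →
    ∃ n ∈ Subgroup.normalizer (A : Set G), n * x * n⁻¹ = g * x * g⁻¹
  outer : ∀ x y : ↥(Subgroup.normalizer (A : Set G)), (x : G) * x = 1 → (y : G) * y = 1 → σ x ≠ 1 → σ x = σ y →
    ∃ c ∈ Subgroup.centralizer (A : Set G), c * (x : G) * c⁻¹ = y

variable {G : Type*} [Group G]

theorem odd_sqrt [Finite G] {o : G} (ho : Odd (orderOf o)) : ∃ k, o ^ (k + k) = o := by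
  obtain ⟨m, hm⟩ := ho
  exact ⟨m + 1, by rw [show m + 1 + (m + 1) = orderOf o + 1 by omega, pow_succ, pow_orderOf_eq_one, one_mul]⟩

theorem outer_conj [Finite G] {A O : Subgroup G} (hsq : ∀ a ∈ A, a * a = 1)
    (hO : Odd (Nat.card O)) (hAO : ∀ a ∈ A, ∀ o ∈ O, a * o = o * a) {x α o : G} (hx : x * x = 1)
    (hxA : ∀ a ∈ A, x * a * x⁻¹ ∈ A) (hxO : x * o * x⁻¹ ∈ O) (hα : α ∈ A) (ho : o ∈ O)
    (hy : x * (α * o) * (x * (α * o)) = 1) (hfix : ∀ a ∈ A, x * a * x⁻¹ = a → ∃ b ∈ A, b * (x * b * x⁻¹) = a) :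
    ∃ β ∈ A, ∃ h ∈ O, β * h * x * (β * h)⁻¹ = x * (α * o) := by
  -- `x` inverts `α * o`
  have hinv : (x * α * x⁻¹) * (x * o * x⁻¹) * (α * o) = 1 := by
    rw [invol_inv hx]
    calc x * α * x * (x * o * x) * (α * o) = x * α * (x * x) * o * x * (α * o) := by group
      _ = x * (α * o) * (x * (α * o)) := by rw [hx]; group
      _ = 1 := hy
  have e : (x * α * x⁻¹) * α * ((x * o * x⁻¹) * o) = 1 := by
    calc (x * α * x⁻¹) * α * ((x * o * x⁻¹) * o) = x * α * x⁻¹ * (α * (x * o * x⁻¹)) * o := by group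
      _ = x * α * x⁻¹ * ((x * o * x⁻¹) * α) * o := by rw [hAO α hα _ hxO]
      _ = (x * α * x⁻¹) * (x * o * x⁻¹) * (α * o) := by group
      _ = 1 := hinv
  have hα' : (x * α * x⁻¹) * α = 1 :=
    inf_odd hsq hO (mul_mem (hxA α hα) hα) (by rw [eq_inv_of_mul_eq_one_left e]; exact inv_mem (mul_mem hxO ho))
  have ho' : x * o * x⁻¹ * o = 1 := by rwa [hα', one_mul] at e
  have hfixα : x * α * x⁻¹ = α := by
    rw [mul_eq_one_iff_eq_inv, invol_inv (hsq α hα)] at hα'; exact hα'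
  obtain ⟨β, hβ, hβα⟩ := hfix α hα hfixα
  obtain ⟨k, hk⟩ := odd_sqrt (odd_orderOf hO ho)
  refine ⟨β, hβ, (o ^ k)⁻¹, inv_mem (pow_mem ho k), ?_⟩
  have hko : x * o ^ k * x⁻¹ = (o ^ k)⁻¹ := by
    rw [← conj_pow, eq_inv_of_mul_eq_one_left ho', inv_pow]
  have hb : β * x * β⁻¹ = x * α := by
    rw [← hβα, invol_inv (hsq β hβ), invol_inv hx]
    have hc : β * (x * β * x) = x * β * x * β := by
      have hm : x * β * x ∈ A := by simpa [invol_inv hx] using hxA β hβ
      rw [mul_eq_one_iff_eq_inv, invol_inv (hsq α hα)] at hα'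
      have h2 : β * (x * β * x) = α := by rw [← invol_inv hx] at hβα ⊢; simpa [invol_inv hx] using hβα
      have h3 : x * (β * (x * β * x)) * x = β * (x * β * x) := by
        rw [h2]; simpa [invol_inv hx] using hfixα
      calc β * (x * β * x) = x * (β * (x * β * x)) * x := h3.symm
        _ = x * β * x * β * (x * x) := by group
        _ = x * β * x * β := by rw [hx, mul_one]
    calc β * x * β = x * (x * β * x * β) := by
          rw [show x * (x * β * x * β) = x * x * (β * x * β) by group, hx, one_mul]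
      _ = x * (β * (x * β * x)) := by rw [hc]
  have h1 : (o ^ k)⁻¹ * x * o ^ k = x * o := by
    calc (o ^ k)⁻¹ * x * o ^ k = x * (o ^ k * o ^ k) := by
          rw [← hko]
          calc x * o ^ k * x⁻¹ * x * o ^ k = x * (o ^ k * o ^ k) := by group
            _ = _ := rfl
      _ = x * o := by rw [← pow_add, hk]
  have hcomm : β * (o ^ k)⁻¹ = (o ^ k)⁻¹ * β := hAO β hβ _ (inv_mem (pow_mem ho k))
  rw [hcomm]
  calc (o ^ k)⁻¹ * β * x * ((o ^ k)⁻¹ * β)⁻¹ = (o ^ k)⁻¹ * (β * x * β⁻¹) * o ^ k := by group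
    _ = (o ^ k)⁻¹ * x * (α * o ^ k) := by rw [hb]; group
    _ = ((o ^ k)⁻¹ * x * o ^ k) * α := by rw [hAO α hα _ (pow_mem ho k)]; group
    _ = x * (α * o) := by rw [h1, mul_assoc, ← hAO α hα o ho]

theorem exists_model [Finite G] (S : Sylow 2 G) (P : Sylow 2 ↥(alternatingGroup (Fin 8)))
    (hS : Nonempty (↥(S : Subgroup G) ≃* ↥(P : Subgroup ↥(alternatingGroup (Fin 8)))))
    (h3 : Nat.card {c : ConjClasses G // ∃ x ∈ c.carrier, orderOf x = 2} = 3)
    (A : Subgroup G) (hA : Cfsg.IsElementaryAbelian 2 A) (hA16 : Nat.card ↥A = 16)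
    (hn : (A.subgroupOf (Subgroup.normalizer (A : Set G)) ⊔ oddCore ↥(Subgroup.normalizer (A : Set G))).Normal)
    (e : ↥(Subgroup.normalizer (A : Set G)) ⧸ (A.subgroupOf (Subgroup.normalizer (A : Set G)) ⊔
      oddCore ↥(Subgroup.normalizer (A : Set G))) ≃* ↥(alternatingGroup (Fin 5))) :
    ∃ M : Model G, M.A = A := by
  classical
  haveI := Fact.mk Nat.prime_two
  obtain ⟨hab, hexp⟩ := hA
  have hsq : ∀ a ∈ A, a * a = 1 := fun a ha => by rw [← pow_two]; exact hexp a ha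
  have hcomm : ∀ a ∈ A, ∀ b ∈ A, a * b = b * a := fun a ha b hb =>
    congrArg Subtype.val (hab.is_comm.comm ⟨a, ha⟩ ⟨b, hb⟩)
  set N := Subgroup.normalizer (A : Set G) with hN
  let π : N →* Q5 := e.toMonoidHom.comp (QuotientGroup.mk' _)
  have hπs : Function.Surjective π := e.surjective.comp (QuotientGroup.mk'_surjective _)
  have hπk : ∀ n, π n = 1 ↔ n ∈ A.subgroupOf N ⊔ oddCore N := fun n => by
    show e (QuotientGroup.mk' _ n) = 1 ↔ _
    rw [map_eq_one_iff e e.injective, QuotientGroup.mk'_apply, QuotientGroup.eq_one_iff]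
  set O := core N with hO
  have hAN : A ≤ N := Subgroup.le_normalizer
  have hAO : ∀ a ∈ A, ∀ o ∈ O, a * o = o * a := fun a ha o ho => by
    refine (mul_comm_of_conj (inf_odd hsq (core_odd N) ?_ ?_) (hsq a ha)).symm
    · exact A.mul_mem ((Subgroup.mem_normalizer_iff.mp (core_le N ho) a).mp ha) ha
    · rw [show o * a * o⁻¹ * a = o * (a * o⁻¹ * a⁻¹) * (a * a) by group, hsq a ha, mul_one]
      exact mul_mem ho (core_conj_mem (hAN ha) (inv_mem ho))
  have hdecomp : ∀ n : N, π n = 1 → ∃ a ∈ A, ∃ o ∈ O, (n : G) = a * o := fun n h => by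
    rw [hπk, ← SetLike.mem_coe, Subgroup.mul_normal, Set.mem_mul] at h
    obtain ⟨a, ha, o, ho, e⟩ := h
    exact ⟨a, ha, o, ⟨o, ho, rfl⟩, by rw [← e]; rfl⟩
  have hOC : O ≤ core (Subgroup.centralizer (A : Set G)) := by
    refine le_core (fun o ho => Subgroup.mem_centralizer_iff.mpr fun a ha => hAO a ha o ho) (core_odd N) ?_
    intro x hx d hd
    refine core_conj_mem (Subgroup.mem_normalizer_iff.mpr fun a => ?_) hd
    constructor
    · intro ha
      rw [← Subgroup.mem_centralizer_iff.mp hx a ha, mul_inv_cancel_right]; exact ha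
    · intro ha
      have := Subgroup.mem_centralizer_iff.mp hx _ ha
      have e : x * a * x⁻¹ = a := by
        calc x * a * x⁻¹ = x⁻¹ * (x * (x * a * x⁻¹)) := by group
          _ = x⁻¹ * ((x * a * x⁻¹) * x) := by rw [this]
          _ = a := by group
      exact e ▸ ha
  -- the action of the quotient
  have hker : π.ker ≤ A.normalizerMonoidHom.ker := fun n hnk => by
    obtain ⟨a, ha, o, ho, e⟩ := hdecomp n hnk
    rw [Subgroup.normalizerMonoidHom_ker, Subgroup.mem_subgroupOf]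
    refine Subgroup.mem_centralizer_iff.mpr fun b hb => ?_
    rw [e, ← mul_assoc, hcomm b hb a ha, mul_assoc, hAO b hb o ho, ← mul_assoc]
  let φ : Q5 →* MulAut A := π.liftOfSurjective hπs ⟨A.normalizerMonoidHom, hker⟩
  have hφ : ∀ (n : N) (a : A), ((φ (π n) a : A) : G) = (n : G) * a * (n : G)⁻¹ := fun n a => by
    have : φ (π n) = A.normalizerMonoidHom n := MonoidHom.liftOfRightInverse_comp_apply _ _ _ _ n
    rw [this]; rfl
  -- a Sylow subgroup
  obtain ⟨eSP⟩ := hS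
  have h64P : Nat.card (S : Subgroup G) = 64 := by
    let Q : Subgroup (alternatingGroup (Fin 8)) := CfsgLib.AltSection.a8Two.subgroupOf _
    have hQ : Nat.card Q = 64 := (Nat.card_congr (Subgroup.subgroupOfEquivOfLe CfsgLib.AltSection.a8Two_le).toEquiv).trans
      CfsgLib.AltSection.card_a8Two
    have hidx : ¬ 2 ∣ Q.index := by
      have := Q.card_mul_index
      rw [hQ, nat_card_alternatingGroup, Nat.card_eq_fintype_card, Fintype.card_fin,
        show Nat.factorial 8 / 2 = 20160 by decide] at this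
      omega
    rw [Nat.card_congr eSP.toEquiv, Nat.card_congr (Sylow.equiv P ((IsPGroup.of_card (n := 6) hQ).toSylow hidx)).toEquiv]
    exact hQ
  have h64N : 2 ^ 6 ∣ Nat.card N := by
    rw [← π.ker.card_mul_index, Subgroup.index_ker, MonoidHom.range_eq_top.mpr hπs, Subgroup.card_top,
      show Nat.card Q5 = 60 by rw [Nat.card_eq_fintype_card]; decide +kernel]
    have : Nat.card (A.subgroupOf N) ∣ Nat.card π.ker := Subgroup.card_dvd_of_le fun a ha =>
      (hπk a).mpr (Subgroup.mem_sup_left ha)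
    rw [Nat.card_congr (Subgroup.subgroupOfEquivOfLe hAN).toEquiv, hA16] at this
    obtain ⟨m, hm⟩ := this
    exact ⟨m * 15, by rw [hm]; ring⟩
  obtain ⟨K, hK⟩ := Sylow.exists_subgroup_card_pow_prime 2 h64N
  have hT : Nat.card (K.map N.subtype) = 64 := by
    rw [Subgroup.card_map_of_injective N.subtype_injective, hK]; norm_num
  let T : Sylow 2 G := Sylow.ofCard (K.map N.subtype) (by rw [hT, ← S.card_eq_multiplicity, h64P])
  have hTN : (T : Subgroup G) ≤ N := Subgroup.map_subtype_le _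
  have hintoN : ∀ g : G, g * g = 1 → ∃ k, k * g * k⁻¹ ∈ N := by
    intro g hg
    have hp : IsPGroup 2 (Subgroup.zpowers g) := IsPGroup.iff_card.mpr (by
      rw [Nat.card_zpowers]
      rcases (Nat.dvd_prime Nat.prime_two).mp (orderOf_dvd_of_pow_eq_one (by rw [pow_two, hg]) : orderOf g ∣ 2) with h | h
      · exact ⟨0, h⟩
      · exact ⟨1, h⟩)
    obtain ⟨R, hR⟩ := hp.exists_le_sylow
    obtain ⟨k, hk⟩ := MulAction.exists_smul_eq G R T
    refine ⟨k, hTN ?_⟩
    rw [← hk, Sylow.coe_subgroup_smul]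
    exact ⟨g, hR (Subgroup.mem_zpowers g), rfl⟩
  -- the action is faithful
  have hφi : Function.Injective φ := by
    rw [← MonoidHom.ker_eq_bot_iff]
    haveI : IsSimpleGroup Q5 := alternatingGroup.isSimpleGroup_five
    refine (Subgroup.Normal.eq_bot_or_eq_top inferInstance).resolve_right fun htop => ?_
    have hc : ∀ (n : N) (a : A), (n : G) * a * (n : G)⁻¹ = a := fun n a => by
      rw [← hφ, MonoidHom.mem_ker.mp (htop ▸ Subgroup.mem_top (π n) : π n ∈ φ.ker), MulAut.one_apply]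
    have hA2 : IsPGroup 2 A := fun a => ⟨1, Subtype.ext (by simpa [pow_two] using hsq a a.2)⟩
    obtain ⟨R, hR⟩ := (hA2.comap_subtype (K := N) : IsPGroup 2 (A.subgroupOf N)).exists_le_sylow
    obtain ⟨RS, hRS⟩ := (R.2.map N.subtype).exists_le_sylow
    have hRN : (RS : Subgroup G) ≤ N := by
      have h6 : 64 ∣ Nat.card (R : Subgroup N) := by
        rw [R.card_eq_multiplicity, show (64 : ℕ) = 2 ^ 6 by norm_num]
        exact Nat.pow_dvd_pow 2 ((Nat.Prime.pow_dvd_iff_le_factorization Nat.prime_two Nat.card_pos.ne').mp h64N)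
      have hRS64 : Nat.card (RS : Subgroup G) = 64 := by
        rw [RS.card_eq_multiplicity, ← S.card_eq_multiplicity, h64P]
      rw [← Subgroup.eq_of_le_of_card_ge hRS (by
        rw [hRS64, Subgroup.card_map_of_injective N.subtype_injective]
        exact Nat.le_of_dvd Nat.card_pos h6)]
      exact Subgroup.map_subtype_le _
    have hAR : A ≤ (RS : Subgroup G) := fun a ha => hRS ⟨⟨a, hAN ha⟩, hR ha, rfl⟩
    let e' := (Sylow.equiv RS S).trans eSP
    have := center_small P (fun a : A => e' ⟨a, hAR a.2⟩)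
      (fun a b h => Subtype.ext (congrArg (fun z : (RS : Subgroup G) => (z : G)) (e'.injective h))) fun a y => by
      obtain ⟨z, rfl⟩ := e'.surjective y
      rw [← map_mul, ← map_mul]
      refine congrArg e' (Subtype.ext ?_)
      exact mul_inv_eq_iff_eq_mul.mp (hc ⟨z, hRN z.2⟩ a)
    rw [hA16] at this
    omega
  have hA' : Nat.card A = 16 := hA16
  have hsq' : ∀ a : A, a * a = 1 := fun a => Subtype.ext (hsq a a.2)
  have hcomm' : ∀ a b : A, a * b = b * a := fun a b => Subtype.ext (hcomm a a.2 b b.2)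
  -- outer involutions
  have houter : ∀ x y : N, (x : G) * x = 1 → (y : G) * y = 1 → π x ≠ 1 → π x = π y →
      ∃ c ∈ Subgroup.centralizer (A : Set G), c * (x : G) * c⁻¹ = y := by
    intro x y hx hy hx1 hxy
    obtain ⟨α, hα, o, ho, hk⟩ := hdecomp (x⁻¹ * y) (by rw [map_mul, map_inv, hxy, inv_mul_cancel])
    have hy' : (y : G) = (x : G) * (α * o) := by
      rw [← hk]; simp
    have hπt : π x * π x = 1 := by
      rw [← map_mul, show x * x = 1 from Subtype.ext hx, map_one]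
    obtain ⟨β, hβ, h, hh, e⟩ := outer_conj hsq (core_odd N) hAO hx
      (fun a ha => (Subgroup.mem_normalizer_iff.mp x.2 a).mp ha) (core_conj_mem x.2 ho) hα ho (hy' ▸ hy)
      fun a ha hfix => by
        obtain ⟨b, hb⟩ := (fixd_invol φ hsq' hcomm' hA' hφi hπt hx1).2 ⟨a, ha⟩ (Subtype.ext ((hφ x ⟨a, ha⟩).trans hfix))
        exact ⟨b, b.2, (congrArg (fun z : G => (b : G) * z) (hφ x b)).symm.trans (congrArg Subtype.val hb)⟩
    refine ⟨β * h, mul_mem (Subgroup.mem_centralizer_iff.mpr fun a ha => hcomm a ha β hβ)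
      (Subgroup.mem_centralizer_iff.mpr fun a ha => hAO a ha h hh), e.trans hy'.symm⟩
  have hinA : ∀ x : N, (x : G) * x = 1 → π x = 1 → (x : G) ∈ A := by
    intro x hx h
    obtain ⟨a, ha, o, ho, e⟩ := hdecomp x h
    have ho1 : o = 1 := eq_one_of_odd_sq (by
      rw [e, show a * o * (a * o) = a * (o * a) * o by group, ← hAO a ha o ho, ← mul_assoc, hsq a ha, one_mul] at hx
      exact hx) (odd_orderOf (core_odd N) ho)
    rw [e, ho1, mul_one]; exact ha
  -- three classes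
  set C := {c : ConjClasses G // ∃ x ∈ c.carrier, orderOf x = 2}
  have hrep : ∀ c : C, ∃ x : N, (x : G) * x = 1 ∧ (x : G) ≠ 1 ∧ ConjClasses.mk (x : G) = c.1 := by
    rintro ⟨c, x, hx, h2⟩
    have hxx : x * x = 1 := by rw [← pow_two, ← h2]; exact pow_orderOf_eq_one x
    obtain ⟨k, hk⟩ := hintoN x hxx
    refine ⟨⟨_, hk⟩, by simp only; rw [show k * x * k⁻¹ * (k * x * k⁻¹) = k * (x * x) * k⁻¹ by group, hxx]; group,
      fun h => ?_, ?_⟩
    · have : x = 1 := by rw [show x = k⁻¹ * (k * x * k⁻¹) * k by group]; simp only at h; rw [h]; group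
      rw [this, orderOf_one] at h2; omega
    · show ConjClasses.mk (k * x * k⁻¹) = c
      rw [← ConjClasses.mem_carrier_iff_mk_eq.mp hx, ConjClasses.mk_eq_mk_iff_isConj]
      exact (isConj_iff.mpr ⟨k, rfl⟩).symm
  let kind : N → Orbs φ := fun x => if h : (x : G) ∈ A then Quotient.mk'' ⟨x, h⟩ else Quotient.mk'' 1
  have hkind : ∀ x y : N, (x : G) * x = 1 → (y : G) * y = 1 → (x : G) ≠ 1 → (y : G) ≠ 1 → kind x = kind y →
      ∃ n ∈ N, n * (x : G) * n⁻¹ = y := by
    intro x y hx hy hx1 hy1 h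
    by_cases hxA : (x : G) ∈ A <;> by_cases hyA : (y : G) ∈ A <;> simp only [kind, dif_pos, dif_neg, hxA, hyA,
      not_false_eq_true] at h
    · obtain ⟨q, hq⟩ := (orel_iff φ).mp (Quotient.eq''.mp h)
      obtain ⟨n, rfl⟩ := hπs q
      refine ⟨(n : G)⁻¹, N.inv_mem n.2, ?_⟩
      have := congrArg Subtype.val hq
      rw [hφ] at this
      rw [← this]; simp only; group
    · obtain ⟨q, hq⟩ := (orel_iff φ).mp (Quotient.eq''.mp h)
      exact absurd (congrArg Subtype.val (hq.symm.trans (map_one (φ q)))) hx1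
    · obtain ⟨q, hq⟩ := (orel_iff φ).mp (Quotient.eq''.mp h.symm)
      exact absurd (congrArg Subtype.val (hq.symm.trans (map_one (φ q)))) hy1
    · have hx' : π x ≠ 1 := fun h => hxA (hinA x hx h)
      have hy' : π y ≠ 1 := fun h => hyA (hinA y hy h)
      have hdec : ∀ s t : Q5, s * s = 1 → t * t = 1 → s ≠ 1 → t ≠ 1 → ∃ q, q * s * q⁻¹ = t := by decide +kernel
      have sq1 : ∀ z : N, (z : G) * z = 1 → π z * π z = 1 := fun z hz => by
        rw [← map_mul, show z * z = 1 from Subtype.ext hz, map_one]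
      obtain ⟨q, hq⟩ := hdec _ _ (sq1 x hx) (sq1 y hy) hx' hy'
      obtain ⟨n, rfl⟩ := hπs q
      have hz : ((n * x * n⁻¹ : N) : G) * ((n * x * n⁻¹ : N) : G) = 1 := by
        rw [← Subgroup.coe_mul, show n * x * n⁻¹ * (n * x * n⁻¹) = n * (x * x) * n⁻¹ by group,
          show x * x = 1 from Subtype.ext hx, mul_one, mul_inv_cancel, Subgroup.coe_one]
      obtain ⟨c, hc, hce⟩ := houter (n * x * n⁻¹) y hz hy (by rw [map_mul, map_mul, map_inv, hq]; exact hy')
        (by rw [map_mul, map_mul, map_inv, hq])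
      refine ⟨c * n, N.mul_mem (Subgroup.mem_normalizer_iff.mpr fun a => ?_) n.2, ?_⟩
      · refine ⟨fun ha => ?_, fun ha => ?_⟩
        · rw [← Subgroup.mem_centralizer_iff.mp hc a ha, mul_inv_cancel_right]; exact ha
        · have h2 := Subgroup.mem_centralizer_iff.mp hc _ ha
          have e : c * a * c⁻¹ = a := by
            calc c * a * c⁻¹ = c⁻¹ * (c * (c * a * c⁻¹)) := by group
              _ = c⁻¹ * ((c * a * c⁻¹) * c) := by rw [h2]
              _ = a := by group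
          exact e ▸ ha
      · rw [← hce]; simp [mul_assoc]
  choose r hr2 hr1 hrc using hrep
  have hK3 := card_orbs_le φ hsq' hcomm' hA' hφi
  have hinj : Function.Injective fun c : C => kind (r c) := fun c d h => by
    obtain ⟨n, -, hn⟩ := hkind _ _ (hr2 c) (hr2 d) (hr1 c) (hr1 d) h
    refine Subtype.ext ?_
    rw [← hrc c, ← hrc d, ConjClasses.mk_eq_mk_iff_isConj]
    exact isConj_iff.mpr ⟨n, hn⟩
  have hcard : Nat.card (Orbs φ) = 3 := le_antisymm hK3 (h3 ▸ Nat.card_le_card_of_injective _ hinj)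
  have hsurj : Function.Surjective fun c : C => kind (r c) :=
    ((Nat.bijective_iff_injective_and_card _).mpr ⟨hinj, by rw [hcard, h3]⟩).2
  have hkey : ∀ x : N, (x : G) * x = 1 → (x : G) ≠ 1 → ∀ c : C, kind (r c) = kind x → ConjClasses.mk (x : G) = c.1 := by
    intro x hx hx1 c h
    obtain ⟨n, -, hn⟩ := hkind _ _ (hr2 c) hx (hr1 c) hx1 h
    rw [← hrc c, ConjClasses.mk_eq_mk_iff_isConj]
    exact (isConj_iff.mpr ⟨n, hn⟩).symm
  have hfus : ∀ x ∈ N, x * x = 1 → x ≠ 1 → ∀ g : G, g * x * g⁻¹ ∈ N → ∃ n ∈ N, n * x * n⁻¹ = g * x * g⁻¹ := by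
    intro x hxN hx hx1 g hg
    have hy : g * x * g⁻¹ * (g * x * g⁻¹) = 1 := by
      rw [show g * x * g⁻¹ * (g * x * g⁻¹) = g * (x * x) * g⁻¹ by group, hx]; group
    have hy1 : g * x * g⁻¹ ≠ 1 := fun h => hx1 (by rw [show x = g⁻¹ * (g * x * g⁻¹) * g by group, h]; group)
    obtain ⟨c, hc⟩ := hsurj (kind ⟨x, hxN⟩)
    obtain ⟨d, hd⟩ := hsurj (kind ⟨_, hg⟩)
    have hcd : c = d := Subtype.ext (by
      rw [← hkey ⟨x, hxN⟩ hx hx1 c hc, ← hkey ⟨_, hg⟩ hy hy1 d hd, ConjClasses.mk_eq_mk_iff_isConj]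
      exact isConj_iff.mpr ⟨g, rfl⟩)
    subst hcd
    exact hkind ⟨x, hxN⟩ ⟨_, hg⟩ hx hy hx1 hy1 (hc.symm.trans hd)
  have hclosed : ∀ a ∈ A, ∀ g : G, g * a * g⁻¹ ∈ N → g * a * g⁻¹ ∈ A := by
    intro a ha g hg
    by_cases ha1 : a = 1
    · simp [ha1]
    · obtain ⟨n, hn, e⟩ := hfus a (hAN ha) (hsq a ha) ha1 g hg
      rw [← e]; exact (Subgroup.mem_normalizer_iff.mp hn a).mp ha
  have hsyl : ∀ R : Subgroup G, A ≤ R → IsPGroup 2 R → R ≤ N := by
    intro R hAR hR
    obtain ⟨R', hR'⟩ := hR.exists_le_sylow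
    obtain ⟨k, hk⟩ := MulAction.exists_smul_eq G R' T
    have hin : ∀ x ∈ R, k * x * k⁻¹ ∈ N := fun x hx => hTN (by
      rw [← hk, Sylow.coe_subgroup_smul]; exact ⟨x, hR' hx, rfl⟩)
    have hkN : k ∈ N := mem_normalizer_of_le fun a ha => hclosed a ha k (hin a (hAR ha))
    intro x hx
    rw [show x = k⁻¹ * (k * x * k⁻¹) * k by group]
    exact N.mul_mem (N.mul_mem (N.inv_mem hkN) (hin x hx)) hkN
  -- labels
  obtain ⟨ι, τ, hι, hι1, hτi, hτr, hτc⟩ := five_orbit φ hA' hφi hcard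
  letI : CommGroup A := { (inferInstance : Group A) with mul_comm := hcomm' }
  let ev : Finset (Fin 5) → A := fun s => ∏ i ∈ s, ι i
  have hadd : ∀ s t, ev s * ev t = ev (s ∆ t) := fun s t => by
    have e1 : ev (s ∪ t) * ev (s ∩ t) = ev s * ev t := Finset.prod_union_inter
    have e2 : ev ((s ∪ t) \ (s ∩ t)) * ev (s ∩ t) = ev (s ∪ t) :=
      Finset.prod_sdiff (Finset.inter_subset_union)
    rw [show (s ∆ t) = (s ∪ t) \ (s ∩ t) from symmDiff_eq_sup_sdiff_inf s t, ← e1, ← e2, mul_assoc, hsq', mul_one]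
  have hev : ∀ (n : N) (s : Finset (Fin 5)), φ (π n) (ev s) = ev (s.image (τ (π n))) := fun n s => by
    simp only [ev]
    rw [map_prod, Finset.prod_image (fun i _ j _ h => (τ (π n)).injective h)]
    exact Finset.prod_congr rfl fun i _ => hτc _ i
  have huniv : ev Finset.univ = 1 := by
    obtain ⟨q, hq5, hq1⟩ : ∃ q : Q5, q ^ 5 = 1 ∧ q ≠ 1 := by decide +kernel
    refine fixd_five φ hA' hφi hq5 hq1 ?_
    obtain ⟨n, rfl⟩ := hπs q
    rw [hev, Finset.image_univ_equiv]
  have hle2 : ∀ s : Finset (Fin 5), s.card ≤ 2 → ev s = 1 → s = ∅ := by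
    intro s hs h
    interval_cases hc : s.card
    · exact Finset.card_eq_zero.mp hc
    · obtain ⟨i, rfl⟩ := Finset.card_eq_one.mp hc
      exact absurd (by simpa [ev] using h) (hι1 i)
    · obtain ⟨i, j, hij, rfl⟩ := Finset.card_eq_two.mp hc
      simp only [ev, Finset.prod_pair hij] at h
      rw [mul_eq_one_iff_eq_inv, inv_eq_of_mul_eq_one_right (hsq' (ι j))] at h
      exact absurd (hι h) hij
  have hinj' : ∀ s, ev s = 1 → s = ∅ ∨ s = Finset.univ := fun s h => by
    by_cases hs : s.card ≤ 2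
    · exact Or.inl (hle2 s hs h)
    · refine Or.inr (compl_eq_bot.mp (hle2 sᶜ ?_ ?_))
      · rw [Finset.card_compl, Fintype.card_fin]; omega
      · have := Finset.prod_mul_prod_compl s ι
        change ev s * ev sᶜ = ev Finset.univ at this
        rwa [h, one_mul, huniv] at this
  have hsurj' : Function.Surjective ev := by
    have hb := (Nat.bijective_iff_injective_and_card
      (fun s : {s : Finset (Fin 5) // (4 : Fin 5) ∉ s} => ev s.1)).mpr ⟨fun s t h => Subtype.ext ?_, ?_⟩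
    · exact fun a => let ⟨s, hs⟩ := hb.2 a; ⟨s.1, hs⟩
    · have h1 : ev (s.1 ∆ t.1) = 1 := by rw [← hadd, ← (show ev s.1 = ev t.1 from h), hsq']
      rcases hinj' _ h1 with e | e
      · exact symmDiff_eq_bot.mp e
      · exfalso
        have : (4 : Fin 5) ∈ s.1 ∆ t.1 := by rw [e]; exact Finset.mem_univ _
        rw [Finset.mem_symmDiff] at this
        rcases this with ⟨h4, -⟩ | ⟨h4, -⟩
        · exact s.2 h4
        · exact t.2 h4
    · rw [hA', Nat.card_eq_fintype_card]; decide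
  refine ⟨⟨A, fun s => ev s, fun s => (ev s).2, fun s t => by rw [← hadd]; rfl,
    fun s h => hinj' s (Subtype.ext h), congrArg Subtype.val huniv,
    fun a ha => (hsurj' ⟨a, ha⟩).imp fun s hs => congrArg Subtype.val hs, τ.comp π,
    fun n s => by rw [← hφ n (ev s), hev]; rfl,
    fun n => Equiv.Perm.mem_alternatingGroup.mp (hτr ▸ ⟨π n, rfl⟩ : τ (π n) ∈ alternatingGroup (Fin 5)),
    fun p hp => ?_, fun n hn => ?_, hsyl, hfus, fun x y hx hy h1 h2 => houter x y hx hy
      (fun h => h1 (show τ (π x) = 1 by rw [h, map_one])) (hτi h2)⟩, rfl⟩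
  · obtain ⟨q, hq⟩ := (hτr.symm ▸ Equiv.Perm.mem_alternatingGroup.mpr hp : p ∈ τ.range)
    obtain ⟨n, rfl⟩ := hπs q
    exact ⟨n, hq⟩
  · obtain ⟨a, ha, o, ho, e⟩ := hdecomp n (hτi (hn.trans (map_one τ).symm))
    exact ⟨a, ha, o, hOC ho, e⟩

end CfsgA8C
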