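/-
First consequences of the labels.
-/
import Cfsg.Agent.Lib.A8Classes.Model

set_option autoImplicit false
set_option maxRecDepth 10000

namespace CfsgA8C

open Cfsg Subgroup
open scoped symmDiff

/-- One label or all but one. -/
def small (s : Finset (Fin 5)) : Prop := s.card = 1 ∨ s.card = 4

instance (s : Finset (Fin 5)) : Decidable (small s) := by unfold small; infer_instance

/-- The two names of the same element. -/
def triv (s : Finset (Fin 5)) : Prop := s = ∅ ∨ s = Finset.univ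

instance (s : Finset (Fin 5)) : Decidable (triv s) := by unfold triv; infer_instance

namespace Model

variable {G : Type*} [Group G] (M : Model G)

local notation "NA" => Subgroup.normalizer (M.A : Set G)

theorem empty : M.ev ∅ = 1 := by
  have h := M.add ∅ ∅
  rwa [symmDiff_self, Finset.bot_eq_empty, mul_eq_left] at h

theorem ev_sq (s : Finset (Fin 5)) : M.ev s * M.ev s = 1 := by
  rw [M.add, symmDiff_self, Finset.bot_eq_empty, M.empty]

theorem ev_comm (s t : Finset (Fin 5)) : M.ev s * M.ev t = M.ev t * M.ev s := by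
  rw [M.add, M.add, symmDiff_comm]

theorem sq : ∀ a ∈ M.A, a * a = 1 := fun a ha => by
  obtain ⟨s, rfl⟩ := M.surj a ha; exact M.ev_sq s

theorem comm : ∀ a ∈ M.A, ∀ b ∈ M.A, a * b = b * a := fun a ha b hb => by
  obtain ⟨s, rfl⟩ := M.surj a ha
  obtain ⟨t, rfl⟩ := M.surj b hb
  exact M.ev_comm s t

theorem ev_eq {s t : Finset (Fin 5)} : M.ev s = M.ev t ↔ triv (s ∆ t) := by
  refine ⟨fun h => M.inj _ (by rw [← M.add, h, M.ev_sq]), fun h => ?_⟩
  have h1 : M.ev (s ∆ t) = 1 := by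
    rcases h with e | e
    · rw [e, M.empty]
    · rw [e, M.one_univ]
  rw [← M.add, mul_eq_one_iff_eq_inv, invol_inv (M.ev_sq t)] at h1
  exact h1

theorem ev_ne_one {s : Finset (Fin 5)} (h : ¬ triv s) : M.ev s ≠ 1 := fun e => h (M.inj s e)

theorem A_le : M.A ≤ NA := Subgroup.le_normalizer

/-- Fusion respects the two orbits. -/
theorem fus_small {s t : Finset (Fin 5)} (hs : ¬ triv s) {g : G} (h : g * M.ev s * g⁻¹ = M.ev t) :
    small s ↔ small t := by
  obtain ⟨n, hn, e⟩ := M.fus (M.ev s) (M.A_le (M.mem s)) (M.ev_sq s) (M.ev_ne_one hs) g (h ▸ M.A_le (M.mem t))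
  rw [h, show n * M.ev s * n⁻¹ = M.ev (s.image (M.σ ⟨n, hn⟩)) from M.conj ⟨n, hn⟩ s, M.ev_eq] at e
  set p := M.σ ⟨n, hn⟩
  have hc : (s.image p).card = s.card := Finset.card_image_of_injective s p.injective
  have key : ∀ u t : Finset (Fin 5), triv (u ∆ t) → (small u ↔ small t) := by decide +kernel
  rw [← key _ t e, small, small, hc]

theorem closed : ∀ a ∈ M.A, ∀ g : G, g * a * g⁻¹ ∈ NA → g * a * g⁻¹ ∈ M.A := by
  intro a ha g hg
  by_cases ha1 : a = 1
  · simp [ha1]
  · obtain ⟨n, hn, e⟩ := M.fus a (M.A_le ha) (M.sq a ha) ha1 g hg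
    rw [← e]
    exact (Subgroup.mem_normalizer_iff.mp hn a).mp ha

/-- Trivial action on the labels. -/
theorem σ_eq_one (n : NA) (h : ∀ a ∈ M.A, (n : G) * a = a * n) : M.σ n = 1 := by
  have key : ∀ i j : Fin 5, triv (({i} : Finset (Fin 5)) ∆ {j}) → i = j := by decide +kernel
  refine Equiv.ext fun i => ?_
  have e := M.conj n {i}
  rw [h _ (M.mem _), mul_inv_cancel_right, Finset.image_singleton, M.ev_eq] at e
  exact (key _ _ e).symm

theorem σ_ev (s : Finset (Fin 5)) : M.σ ⟨M.ev s, M.A_le (M.mem s)⟩ = 1 :=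
  M.σ_eq_one _ fun a ha => M.comm _ (M.mem s) a ha

theorem σ_cent (c : G) (hc : c ∈ Subgroup.centralizer (M.A : Set G)) (hcN : c ∈ NA) : M.σ ⟨c, hcN⟩ = 1 :=
  M.σ_eq_one _ fun a ha => (Subgroup.mem_centralizer_iff.mp hc a ha).symm

theorem centralizer_le : Subgroup.centralizer (M.A : Set G) ≤ NA := fun c hc =>
  Subgroup.mem_normalizer_iff.mpr fun a => by
    refine ⟨fun ha => ?_, fun ha => ?_⟩
    · rw [← Subgroup.mem_centralizer_iff.mp hc a ha, mul_inv_cancel_right]; exact ha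
    · have h2 := Subgroup.mem_centralizer_iff.mp hc _ ha
      have e : c * a * c⁻¹ = a := by
        calc c * a * c⁻¹ = c⁻¹ * (c * (c * a * c⁻¹)) := by group
          _ = c⁻¹ * ((c * a * c⁻¹) * c) := by rw [h2]
          _ = a := by group
      exact e ▸ ha

variable [Finite G]

/-- A 2-element acting trivially on the labels lies in `A`. -/
theorem two_ker (n : NA) (h : M.σ n = 1) (hp : ∃ k, (n : G) ^ 2 ^ k = 1) : (n : G) ∈ M.A := by
  obtain ⟨a, ha, o, ho, e⟩ := M.ker n h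
  obtain ⟨k, hk⟩ := hp
  have hc : Commute o a := (Subgroup.mem_centralizer_iff.mp (core_le _ ho) a ha).symm
  have ho' : o = a * n := by rw [e, ← mul_assoc, M.sq a ha, one_mul]
  have hcn : Commute a (n : G) := by
    rw [e]; exact (Commute.refl a).mul_right hc.symm
  have h2 : o ^ 2 ^ (k + 1) = 1 := by
    rw [ho', hcn.mul_pow, pow_succ 2 k, mul_comm (2 ^ k) 2, pow_mul, pow_mul, pow_two, pow_two, M.sq a ha, one_pow,
      one_mul]
    rw [← pow_two, ← pow_mul, mul_comm, pow_mul, hk, one_pow]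
  have hodd := odd_orderOf (core_odd _) ho
  have h1 : orderOf o ∣ 2 ^ (k + 1) := orderOf_dvd_of_pow_eq_one h2
  have : orderOf o = 1 := Nat.Coprime.eq_one_of_dvd (Nat.Coprime.pow_right _ (Nat.coprime_two_right.mpr hodd)) h1
  rw [e, orderOf_eq_one_iff.mp this, mul_one]
  exact ha

theorem sc : SC (⊤ : Subgroup G) M.A := by
  refine ⟨le_top, M.sq, M.comm, fun a ha g _ => M.closed a ha g, fun R h1 _ h3 => M.syl R h1 h3, ?_⟩
  intro c _ hca hp
  have hc : c ∈ Subgroup.centralizer (M.A : Set G) :=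
    Subgroup.mem_centralizer_iff.mpr fun a ha => (hca a ha).symm
  exact M.two_ker ⟨c, M.centralizer_le hc⟩ (M.σ_cent c hc _) hp

/-- An involution over each double transposition. -/
theorem invol_over (y : NA) (hp : ∃ k, (y : G) ^ 2 ^ k = 1) (hy2 : M.σ y * M.σ y = 1) (hy1 : M.σ y ≠ 1) :
    ∃ β ∈ M.A, β * (y : G) * (β * y) = 1 := by
  obtain ⟨k, hk⟩ := hp
  have hyy : (y : G) * y ∈ M.A := M.two_ker (y * y) (by rw [map_mul, hy2]) ⟨k, by
    rw [Subgroup.coe_mul, ← pow_two, ← pow_mul, mul_comm, pow_mul, hk, one_pow]⟩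
  obtain ⟨s, hs⟩ := M.surj _ hyy
  have e : (y : G) * M.ev s * (y : G)⁻¹ = M.ev s := by rw [hs]; group
  rw [M.conj, M.ev_eq] at e
  have key : ∀ p : Equiv.Perm (Fin 5), Equiv.Perm.sign p = 1 → p * p = 1 → p ≠ 1 → ∀ s : Finset (Fin 5),
      triv (s.image p ∆ s) → ∃ t : Finset (Fin 5), triv ((t ∆ t.image p) ∆ s) := by decide +kernel
  obtain ⟨t, ht⟩ := key _ (M.sign y) hy2 hy1 s e
  refine ⟨M.ev t, M.mem t, ?_⟩
  rw [show M.ev t * (y : G) * (M.ev t * y) = M.ev t * ((y : G) * M.ev t * (y : G)⁻¹) * ((y : G) * y) by group, M.conj,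
    M.add, ← hs, M.add]
  rcases ht with e | e
  · rw [e, M.empty]
  · rw [e, M.one_univ]

end Model

end CfsgA8C
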