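/-
The centralizer of an involution of the short orbit factorizes.
-/
import Cfsg.Agent.Lib.A8Classes.ModelBasic
import Cfsg.Agent.Lib.A8Classes.Flat

set_option autoImplicit false
set_option maxRecDepth 100000

namespace CfsgA8C

open Cfsg Subgroup
open scoped symmDiff

abbrev p1 : Equiv.Perm (Fin 5) := Equiv.swap 0 1 * Equiv.swap 2 3
abbrev p2 : Equiv.Perm (Fin 5) := Equiv.swap 0 2 * Equiv.swap 1 3
abbrev p3 : Equiv.Perm (Fin 5) := Equiv.swap 0 3 * Equiv.swap 1 2

/-- The four-group fixing the last point. -/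
def inV (p : Equiv.Perm (Fin 5)) : Prop := p = 1 ∨ p = p1 ∨ p = p2 ∨ p = p3

/-- Labels agreeing up to the last point. -/
def eqz (s t : Finset (Fin 5)) : Prop := triv (s ∆ t) ∨ triv (s ∆ t ∆ {4})

/-- Labels of the subgroup of index two. -/
def vgood (s : Finset (Fin 5)) : Prop := eqz (s.image p1) s

instance (p : Equiv.Perm (Fin 5)) : Decidable (inV p) := by unfold inV; infer_instance
instance (s t : Finset (Fin 5)) : Decidable (eqz s t) := by unfold eqz; infer_instance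
instance (s : Finset (Fin 5)) : Decidable (vgood s) := by unfold vgood; infer_instance

/-- Representatives. -/
def rep : Fin 4 → Finset (Fin 5) := ![∅, {0, 3}, {1, 3}, {2, 3}]

theorem vgood_rep : ∀ s, vgood s → ∃ i, eqz s (rep i) := by decide +kernel
theorem rep_vgood : ∀ i, vgood (rep i) := by decide +kernel
theorem vgood_or : ∀ s, vgood s ∨ vgood ({3} ∆ s) := by decide +kernel

theorem Model.cent_four {G : Type*} [Group G] [Finite G] (M : Model G) :
    Ctl (Subgroup.centralizer ({M.ev {4}} : Set G)) (Subgroup.normalizer (M.A : Set G)) := by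
  classical
  haveI := Fact.mk Nat.prime_two
  set a := M.ev {4} with ha
  set X := Subgroup.centralizer ({a} : Set G) with hX
  set NA := Subgroup.normalizer (M.A : Set G) with hNA
  have hAX : ∀ s, M.ev s ∈ X := fun s => Subgroup.mem_centralizer_singleton_iff.mpr (M.ev_comm s _)
  let e : Finset (Fin 5) → X := fun s => ⟨M.ev s, hAX s⟩
  have he_mul : ∀ s t, e s * e t = e (s ∆ t) := fun s t => Subtype.ext (M.add s t)
  have he_sq : ∀ s, e s * e s = 1 := fun s => Subtype.ext (M.ev_sq s)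
  have he_eq : ∀ {s t}, e s = e t ↔ triv (s ∆ t) := fun {s t} =>
    ⟨fun h => M.ev_eq.mp (congrArg Subtype.val h), fun h => Subtype.ext (M.ev_eq.mpr h)⟩
  have he0 : e ∅ = 1 := Subtype.ext M.empty
  set za : X := e {4} with hza
  set qX : X := e {3} with hqX
  have hzc : ∀ x : X, x * za = za * x := fun x => Subtype.ext (Subgroup.mem_centralizer_singleton_iff.mp x.2)
  have hz2 : za * za = 1 := he_sq _
  have hq2 : qX * qX = 1 := he_sq _
  have hXσ : ∀ n : NA, ((n : G) ∈ X ↔ M.σ n 4 = 4) := fun n => by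
    rw [hX, Subgroup.mem_centralizer_singleton_iff, ← mul_inv_eq_iff_eq_mul, ha, M.conj, Finset.image_singleton,
      M.ev_eq]
    exact (show ∀ i : Fin 5, triv (({i} : Finset (Fin 5)) ∆ {4}) ↔ i = 4 by decide +kernel) _
  have hA16 : Nat.card M.A = 16 := by
    rw [← Nat.card_eq_of_bijective (fun s : {s : Finset (Fin 5) // (4 : Fin 5) ∉ s} => (⟨M.ev s.1, M.mem _⟩ : M.A))
      ⟨fun s t h => ?_, fun b => ?_⟩, Nat.card_eq_fintype_card]
    · decide
    · exact Subtype.ext ((show ∀ s t : Finset (Fin 5), (4 : Fin 5) ∉ s → (4 : Fin 5) ∉ t → triv (s ∆ t) → s = t by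
        decide +kernel) _ _ s.2 t.2 (M.ev_eq.mp (congrArg Subtype.val h)))
    · obtain ⟨s, hs⟩ := M.surj b b.2
      obtain ⟨t, ht, h⟩ := (show ∀ s : Finset (Fin 5), ∃ t : Finset (Fin 5), (4 : Fin 5) ∉ t ∧ triv (t ∆ s) by
        decide +kernel) s
      exact ⟨⟨t, ht⟩, Subtype.ext ((M.ev_eq.mpr h).trans hs)⟩
  -- a Sylow subgroup of order at least 64
  set AX : Subgroup X := M.A.subgroupOf X with hAXd
  have hAXp : IsPGroup 2 AX := fun x => ⟨1, Subtype.ext (Subtype.ext (by simpa [pow_two] using M.sq _ x.2))⟩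
  obtain ⟨P, hAP⟩ := hAXp.exists_le_sylow
  have heA : ∀ s, e s ∈ (P : Subgroup X) := fun s => hAP (M.mem s)
  have hP64 : 64 ≤ Nat.card (P : Subgroup X) := by
    set B : Subgroup G := NA ⊓ X
    let ψB : B →* Equiv.Perm (Fin 5) := M.σ.comp (Subgroup.inclusion inf_le_left)
    have h16 : 16 ∣ Nat.card ψB.ker := by
      rw [← hA16, ← Nat.card_congr (Subgroup.subgroupOfEquivOfLe (show M.A ≤ B from fun x hx => ⟨M.A_le hx, by
        obtain ⟨s, rfl⟩ := M.surj x hx; exact hAX s⟩)).toEquiv]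
      exact Subgroup.card_dvd_of_le fun x hx => M.σ_eq_one _ fun b hb => M.comm _ hx b hb
    let V4 : Subgroup (Equiv.Perm (Fin 5)) :=
      { carrier := {p | inV p}
        one_mem' := Or.inl rfl
        mul_mem' := fun {p r} hp hr => by
          rcases hp with rfl | rfl | rfl | rfl <;> rcases hr with rfl | rfl | rfl | rfl <;>
            simp only [Set.mem_setOf_eq] <;> decide +kernel
        inv_mem' := fun {p} hp => by
          rcases hp with rfl | rfl | rfl | rfl <;> simp only [Set.mem_setOf_eq] <;> decide +kernel }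
    have h4 : 4 ∣ Nat.card ψB.range := by
      have hV4 : Nat.card V4 = 4 := by
        show Nat.card {p // inV p} = 4
        rw [Nat.card_eq_fintype_card]
        decide +kernel
      rw [← hV4]
      refine Subgroup.card_dvd_of_le fun p hp => ?_
      obtain ⟨h1, h4⟩ := (show ∀ p : Equiv.Perm (Fin 5), inV p → Equiv.Perm.sign p = 1 ∧ p 4 = 4 by decide +kernel) p hp
      obtain ⟨n, rfl⟩ := M.lift p h1
      exact ⟨⟨n, n.2, (hXσ n).mpr h4⟩, rfl⟩
    have h64 : 2 ^ 6 ∣ Nat.card X := by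
      refine Dvd.dvd.trans ?_ (Subgroup.card_dvd_of_le (inf_le_right : B ≤ X))
      rw [← ψB.ker.card_mul_index, Subgroup.index_ker, show (2 : ℕ) ^ 6 = 16 * 4 by norm_num]
      exact (Nat.mul_dvd_mul h16 h4)
    rw [P.card_eq_multiplicity, show (64 : ℕ) = 2 ^ 6 by norm_num]
    exact Nat.pow_le_pow_right two_pos ((Nat.Prime.pow_dvd_iff_le_factorization Nat.prime_two Nat.card_pos.ne').mp h64)
  have hPN : ∀ x ∈ (P : Subgroup X), (x : G) ∈ NA := fun x hx =>
    M.syl ((P : Subgroup X).map X.subtype) (fun b hb => by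
      obtain ⟨s, rfl⟩ := M.surj b hb; exact ⟨e s, heA s, rfl⟩) (P.2.map _) ⟨x, hx, rfl⟩
  let ψ : (P : Subgroup X) →* Equiv.Perm (Fin 5) :=
    M.σ.comp ((X.subtype.comp (P : Subgroup X).subtype).codRestrict NA fun x => hPN x x.2)
  have hψ2 : ∀ x : (P : Subgroup X), ∃ k, ((x : X) : G) ^ 2 ^ k = 1 := fun x => by
    obtain ⟨k, hk⟩ := P.2 x
    exact ⟨k, congrArg (fun y : (P : Subgroup X) => ((y : X) : G)) hk⟩
  have hψA : ∀ x : (P : Subgroup X), ψ x = 1 → ((x : X) : G) ∈ M.A := fun x h => M.two_ker _ h (hψ2 x)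
  have hψV : ∀ x : (P : Subgroup X), inV (ψ x) := fun x => by
    have h4 : ψ x 4 = 4 := (hXσ _).mp x.1.2
    rcases (show ∀ p : Equiv.Perm (Fin 5), Equiv.Perm.sign p = 1 → p 4 = 4 → inV p ∨ p ^ 3 = 1 by decide +kernel) _
      (M.sign _) h4 with h | h
    · exact h
    · obtain ⟨k, hk⟩ := P.2 x
      have h2 : ψ x ^ 2 ^ k = 1 := by rw [← map_pow, hk, map_one]
      have h1 : ψ x = 1 := orderOf_eq_one_iff.mp (Nat.Coprime.eq_one_of_dvd
        (Nat.Coprime.coprime_dvd_left (orderOf_dvd_of_pow_eq_one h) (Nat.Coprime.pow_right k (by decide : Nat.Coprime 3 2)))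
        (orderOf_dvd_of_pow_eq_one h2))
      rw [h1]; exact Or.inl rfl
  have hψs : ∀ p, inV p → ∃ x, ψ x = p := by
    have hk : Nat.card ψ.ker ≤ 16 := hA16 ▸ Nat.card_le_card_of_injective
      (fun x : ψ.ker => (⟨((x : (P : Subgroup X)) : X), hψA _ x.2⟩ : M.A))
      (fun x y h => Subtype.ext (Subtype.ext (Subtype.ext (congrArg (fun z : M.A => (z : G)) h :))))
    have hc := ψ.ker.card_mul_index
    rw [Subgroup.index_ker] at hc
    have h4 : 4 ≤ Nat.card ψ.range := by nlinarith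
    have hsub : (ψ.range : Set (Equiv.Perm (Fin 5))) ⊆ {p | inV p} := by rintro _ ⟨x, rfl⟩; exact hψV x
    have heq := Set.eq_of_subset_of_ncard_le hsub (by
      rw [← Nat.card_coe_set_eq, ← Nat.card_coe_set_eq]
      refine le_trans ?_ h4
      show Nat.card {p // inV p} ≤ 4
      rw [Nat.card_eq_fintype_card]
      decide +kernel) (Set.toFinite _)
    intro p hp
    have : p ∈ (ψ.range : Set (Equiv.Perm (Fin 5))) := heq.symm ▸ hp
    exact this
  have hconj : ∀ (x : (P : Subgroup X)) s, (x : X) * e s * (x : X)⁻¹ = e (s.image (ψ x)) := fun x s =>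
    Subtype.ext (M.conj ⟨((x : X) : G), hPN _ x.2⟩ s)
  have hinvol : ∀ p, inV p → p ≠ 1 → ∃ t : (P : Subgroup X), (t : X) * t = 1 ∧ ψ t = p := by
    intro p hp hp1
    obtain ⟨x, hx⟩ := hψs p hp
    have hp2 := (show ∀ p : Equiv.Perm (Fin 5), inV p → p * p = 1 by decide +kernel) p hp
    obtain ⟨β, hβ, hb⟩ := M.invol_over ⟨((x : X) : G), hPN _ x.2⟩ (hψ2 x)
      (show ψ x * ψ x = 1 by rw [hx, hp2]) (show ψ x ≠ 1 by rw [hx]; exact hp1)
    obtain ⟨s, rfl⟩ := M.surj β hβ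
    refine ⟨⟨e s, heA s⟩ * x, Subtype.ext hb, ?_⟩
    rw [map_mul, hx, show ψ ⟨e s, heA s⟩ = 1 from M.σ_ev s, one_mul]
  obtain ⟨t1, ht1, hψ1⟩ := hinvol p1 (by decide +kernel) (by decide +kernel)
  obtain ⟨t2, ht2, hψ2'⟩ := hinvol p2 (by decide +kernel) (by decide +kernel)
  obtain ⟨t3, ht3, hψ3⟩ := hinvol p3 (by decide +kernel) (by decide +kernel)
  -- the subgroup of index two
  let T1 : Subgroup X :=
    { carrier := {x | x ∈ (P : Subgroup X) ∧
        ((t1 : X) * x * (t1 : X)⁻¹ = x ∨ (t1 : X) * x * (t1 : X)⁻¹ = x * za)}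
      one_mem' := ⟨one_mem _, Or.inl (by group)⟩
      mul_mem' := by
        rintro x y ⟨hx, hx'⟩ ⟨hy, hy'⟩
        refine ⟨mul_mem hx hy, ?_⟩
        rw [show (t1 : X) * (x * y) * (t1 : X)⁻¹ = (t1 : X) * x * (t1 : X)⁻¹ * ((t1 : X) * y * (t1 : X)⁻¹) by group]
        rcases hx' with h | h <;> rcases hy' with h' | h' <;> rw [h, h']
        · exact Or.inl rfl
        · exact Or.inr (mul_assoc _ _ _).symm
        · exact Or.inr (by rw [mul_assoc, ← hzc, mul_assoc])
        · refine Or.inl ?_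
          rw [mul_assoc x, ← mul_assoc za, ← hzc, mul_assoc y, hz2, mul_one]
      inv_mem' := by
        rintro x ⟨hx, hx'⟩
        refine ⟨inv_mem hx, ?_⟩
        rw [show (t1 : X) * x⁻¹ * (t1 : X)⁻¹ = ((t1 : X) * x * (t1 : X)⁻¹)⁻¹ by group]
        rcases hx' with h | h <;> rw [h]
        · exact Or.inl rfl
        · exact Or.inr (by rw [mul_inv_rev, invol_inv hz2, hzc]) }
  have hT1P : T1 ≤ (P : Subgroup X) := fun x hx => hx.1
  have hTe : ∀ s, e s ∈ T1 ↔ vgood s := fun s => by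
    show (e s ∈ (P : Subgroup X) ∧ _) ↔ eqz (s.image p1) s
    rw [hconj t1 s, hψ1, hza, he_mul, he_eq, he_eq, ← symmDiff_assoc]
    exact and_iff_right (heA s)
  have hzT : za ∈ T1 := (hTe _).mpr (by decide +kernel)
  have hqT : qX ∉ T1 := fun h => (show ¬ vgood {3} by decide +kernel) ((hTe _).mp h)
  have htt : ∀ t : (P : Subgroup X), (t : X) * t = 1 → ψ t ≠ 1 → ψ t ≠ p1 → (t : X) ∈ T1 := by
    intro t ht h1 h2
    refine ⟨t.2, ?_⟩
    have hc : ψ (t1 * t * t1⁻¹ * t) = 1 := by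
      simp only [map_mul, map_inv, hψ1]
      exact (show ∀ p : Equiv.Perm (Fin 5), inV p → p1 * p * p1⁻¹ * p = 1 by decide +kernel) _ (hψV t)
    obtain ⟨s, hs⟩ := M.surj _ (hψA _ hc)
    have hs' : (t1 : X) * t * (t1 : X)⁻¹ * t = e s := Subtype.ext hs.symm
    have ht1' : (t1 : X)⁻¹ = t1 := invol_inv ht1
    have ht' : (t : X)⁻¹ = t := invol_inv ht
    have f1 : e (s.image p1) = e s := by
      rw [← hψ1, ← hconj, ← hs']
      calc (t1 : X) * ((t1 : X) * t * (t1 : X)⁻¹ * t) * (t1 : X)⁻¹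
          = ((t1 : X) * t1) * (t : X) * (t1 : X)⁻¹ * t * (t1 : X)⁻¹ := by group
        _ = ((t1 : X) * t * (t1 : X)⁻¹ * t)⁻¹ := by
          rw [ht1, mul_inv_rev, mul_inv_rev, mul_inv_rev, inv_inv, ht', ht1']; group
        _ = (t1 : X) * t * (t1 : X)⁻¹ * t := by rw [hs']; exact invol_inv (he_sq s)
    have f2 : e (s.image (ψ t)) = e s := by
      rw [← hconj, ← hs']
      calc (t : X) * ((t1 : X) * t * (t1 : X)⁻¹ * t) * (t : X)⁻¹
          = (t : X) * (t1 : X) * t * (t1 : X)⁻¹ := by group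
        _ = ((t1 : X) * t * (t1 : X)⁻¹ * t)⁻¹ := by
          rw [mul_inv_rev, mul_inv_rev, mul_inv_rev, inv_inv, ht', ht1']; group
        _ = (t1 : X) * t * (t1 : X)⁻¹ * t := by rw [hs']; exact invol_inv (he_sq s)
    have hts : (t1 : X) * t * (t1 : X)⁻¹ = e s * t := by rw [← hs', mul_assoc _ (t : X) t, ht, mul_one]
    rcases (show ∀ p : Equiv.Perm (Fin 5), inV p → p ≠ 1 → p ≠ p1 → ∀ s : Finset (Fin 5), triv (s.image p1 ∆ s) →
      triv (s.image p ∆ s) → triv s ∨ triv (s ∆ {4}) by decide +kernel) _ (hψV t) h1 h2 s (he_eq.mp f1) (he_eq.mp f2)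
      with h | h
    · left
      rw [hts, show e s = e ∅ from
        he_eq.mpr ((show ∀ r : Finset (Fin 5), triv r → triv (r ∆ ∅) by decide +kernel) s h), he0, one_mul]
    · right
      rw [hts, show e s = za from he_eq.mpr h, hzc]
  have hT1t1 : (t1 : X) ∈ T1 := ⟨t1.2, Or.inl (by group)⟩
  have hT1t2 : (t2 : X) ∈ T1 := htt t2 ht2 (by rw [hψ2']; decide +kernel) (by rw [hψ2']; decide +kernel)
  have hT1t3 : (t3 : X) ∈ T1 := htt t3 ht3 (by rw [hψ3]; decide +kernel) (by rw [hψ3]; decide +kernel)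
  have hform : ∀ x : (P : Subgroup X), ∃ s, ∃ t : (P : Subgroup X), (t : X) ∈ T1 ∧ (t : X) * t = 1 ∧
      ψ t = ψ x ∧ (x : X) = e s * t := by
    intro x
    obtain ⟨t, h1, h2, h3⟩ : ∃ t : (P : Subgroup X), (t : X) ∈ T1 ∧ (t : X) * t = 1 ∧ ψ t = ψ x := by
      rcases hψV x with h | h | h | h
      · exact ⟨1, T1.one_mem, one_mul _, by rw [h, map_one]⟩
      · exact ⟨t1, hT1t1, ht1, by rw [h, hψ1]⟩
      · exact ⟨t2, hT1t2, ht2, by rw [h, hψ2']⟩
      · exact ⟨t3, hT1t3, ht3, by rw [h, hψ3]⟩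
    obtain ⟨s, hs⟩ := M.surj _ (hψA (x * t⁻¹) (by rw [map_mul, map_inv, h3, mul_inv_cancel]))
    refine ⟨s, t, h1, h2, h3, ?_⟩
    rw [show e s = (x : X) * (t : X)⁻¹ from Subtype.ext hs, inv_mul_cancel_right]
  have hsplit : ∀ x ∈ (P : Subgroup X), x ∈ T1 ∨ qX * x ∈ T1 := fun x hx => by
    obtain ⟨s, t, htT, -, -, rfl⟩ : ∃ s, ∃ t : (P : Subgroup X), (t : X) ∈ T1 ∧ (t : X) * t = 1 ∧
        ψ t = ψ ⟨x, hx⟩ ∧ x = e s * t := hform ⟨x, hx⟩
    rcases vgood_or s with h | h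
    · exact Or.inl (T1.mul_mem ((hTe s).mpr h) htT)
    · right
      rw [← mul_assoc, hqX, he_mul]
      exact T1.mul_mem ((hTe _).mpr h) htT
  have hqP : qX ∈ (P : Subgroup X) := heA _
  have hidx : T1.relIndex (P : Subgroup X) = 2 := Subgroup.index_eq_two_iff'.mpr ⟨⟨qX, hqP⟩, fun b => by
    simp only [Subgroup.mem_subgroupOf]
    rcases hsplit b b.2 with h | h
    · exact Or.inr ⟨h, fun h' => hqT (by
        have : qX * (b : X) * (b : X)⁻¹ ∈ T1 := T1.mul_mem h' (T1.inv_mem h)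
        simpa using this)⟩
    · exact Or.inl ⟨h, fun h' => hqT (by
        have : qX * (b : X) * (b : X)⁻¹ ∈ T1 := T1.mul_mem h (T1.inv_mem h')
        simpa using this)⟩⟩
  have hA_of : ∀ (x : X) s, x * e s * x⁻¹ ∈ (P : Subgroup X) → ∃ r, x * e s * x⁻¹ = e r := fun x s h => by
    obtain ⟨r, hr⟩ := M.surj _ (M.closed _ (M.mem s) (x : G) (hPN _ h))
    exact ⟨r, Subtype.ext hr.symm⟩
  obtain ⟨χ, hχq⟩ := transfer_neg P T1 hT1P hidx qX hq2 fun g hg => by
    obtain ⟨r, hr⟩ := hA_of g {3} (hT1P hg)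
    have hv := (hTe r).mp (hr ▸ hg)
    have hsm := (M.fus_small (show ¬ triv {3} by decide +kernel)
      (congrArg Subtype.val hr : (g : G) * M.ev {3} * (g : G)⁻¹ = M.ev r)).mp (by decide +kernel)
    have : e r = za := he_eq.mpr
      ((show ∀ r, vgood r → small r → triv (r ∆ {4}) by decide +kernel) r hv hsm)
    rw [this] at hr
    have h2 : qX = za := by
      calc qX = g⁻¹ * (g * qX * g⁻¹) * g := by group
        _ = g⁻¹ * (g * za) := by rw [hr, mul_assoc, ← hzc]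
        _ = za := by group
    exact (show ¬ triv (({3} : Finset (Fin 5)) ∆ {4}) by decide +kernel) (he_eq.mp h2)
  have hχc : ∀ x y : X, χ (x * y * x⁻¹) = χ y := fun x y => by
    rw [map_mul, map_mul, map_inv, mul_comm (χ x) (χ y), mul_inv_cancel_right]
  have hχe : ∀ s, vgood s → χ (e s) = 1 := by
    have hpair : ∀ p, inV p → χ (e (({3} : Finset (Fin 5)).image p ∆ {3})) = 1 := fun p hp => by
      obtain ⟨x, rfl⟩ := hψs p hp
      rw [← he_mul, ← hconj, map_mul, hχc, hχq, Int.units_mul_self]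
    intro s hs
    obtain ⟨b1, b2, b3, hb⟩ := (show ∀ s, vgood s → ∃ b1 b2 b3 : Bool, triv (s ∆
      ((if b1 then ({3} : Finset (Fin 5)).image p1 ∆ {3} else ∅) ∆
        ((if b2 then ({3} : Finset (Fin 5)).image p2 ∆ {3} else ∅) ∆
          (if b3 then ({3} : Finset (Fin 5)).image p3 ∆ {3} else ∅)))) by decide +kernel) s hs
    rw [he_eq.mpr hb, ← he_mul, ← he_mul, map_mul, map_mul]
    have h : ∀ (b : Bool) p, inV p → χ (e (if b then ({3} : Finset (Fin 5)).image p ∆ {3} else ∅)) = 1 := by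
      intro b p hp
      cases b
      · simp only [Bool.false_eq_true, if_false, he0, map_one]
      · simpa using hpair p hp
    rw [h b1 p1 (by decide +kernel), h b2 p2 (by decide +kernel), h b3 p3 (by decide +kernel), one_mul, one_mul]
  have hχsame : ∀ t : (P : Subgroup X), (t : X) * t = 1 → ψ t ≠ 1 → ψ t ≠ p1 → χ t = χ t1 := by
    intro t ht h1 h2
    obtain ⟨p, hp, hp4, hpc⟩ := (show ∀ r : Equiv.Perm (Fin 5), inV r → r ≠ 1 → r ≠ p1 →
      ∃ p : Equiv.Perm (Fin 5), Equiv.Perm.sign p = 1 ∧ p 4 = 4 ∧ p * p1 * p⁻¹ = r by decide +kernel) _ (hψV t) h1 h2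
    obtain ⟨n, rfl⟩ := M.lift p hp
    let nX : X := ⟨n, (hXσ n).mpr hp4⟩
    let x' : NA := n * ⟨((t1 : X) : G), hPN _ t1.2⟩ * n⁻¹
    have hσ1 : M.σ ⟨((t1 : X) : G), hPN _ t1.2⟩ = p1 := hψ1
    have hxx : (x' : G) * x' = 1 := by
      have e1 : x' * x' = n * (⟨((t1 : X) : G), hPN _ t1.2⟩ * ⟨((t1 : X) : G), hPN _ t1.2⟩) * n⁻¹ := by
        simp only [x']; group
      rw [show (⟨((t1 : X) : G), hPN _ t1.2⟩ * ⟨((t1 : X) : G), hPN _ t1.2⟩ : NA) = 1 from
        Subtype.ext (congrArg Subtype.val ht1 :), mul_one, mul_inv_cancel] at e1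
      exact congrArg Subtype.val e1
    have hσx : M.σ x' = ψ t := by
      simp only [x', map_mul, map_inv, hσ1]; exact hpc
    obtain ⟨c, hc, hce⟩ := M.outer x' ⟨((t : X) : G), hPN _ t.2⟩ hxx (congrArg Subtype.val ht :)
      (hσx ▸ h1) hσx
    have hcX : c ∈ X := Subgroup.centralizer_le (Set.singleton_subset_iff.mpr (M.mem _)) hc
    have : (t : X) = ⟨c, hcX⟩ * (nX * t1 * nX⁻¹) * (⟨c, hcX⟩ : X)⁻¹ := Subtype.ext hce.symm
    rw [this, hχc, hχc]
  have hχt1 : χ t1 = 1 := by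
    obtain ⟨s, t, htT, -, hpt, hx⟩ := hform (t1 * t2 * t3)
    have hprod : ψ t = 1 := by
      rw [hpt, map_mul, map_mul, hψ1, hψ2', hψ3]; decide +kernel
    obtain ⟨r, hr⟩ := M.surj _ (hψA (t1 * t2 * t3) (hpt ▸ hprod))
    have hmem : (t1 : X) * t2 * t3 ∈ T1 := T1.mul_mem (T1.mul_mem hT1t1 hT1t2) hT1t3
    have hr' : (t1 : X) * t2 * t3 = e r := Subtype.ext hr.symm
    have h := congrArg χ hr'
    rw [hr', hTe] at hmem
    rw [map_mul, map_mul, hχe r hmem, hχsame t2 ht2 (by rw [hψ2']; decide +kernel) (by rw [hψ2']; decide +kernel),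
      hχsame t3 ht3 (by rw [hψ3]; decide +kernel) (by rw [hψ3]; decide +kernel), Int.units_mul_self, one_mul] at h
    exact h
  have hT1ker : T1 ≤ χ.ker := fun x hx => by
    obtain ⟨s, t, htT, ht, hpt, hxe⟩ := hform ⟨x, hT1P hx⟩
    simp only at hxe
    have hs : vgood s := (hTe s).mp (by
      have h := T1.mul_mem hx (T1.inv_mem htT)
      rwa [hxe, mul_inv_cancel_right] at h)
    rw [MonoidHom.mem_ker, hxe, map_mul, hχe s hs, one_mul]
    rcases hψV t with h | h | h | h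
    · obtain ⟨r, hr⟩ := M.surj _ (hψA t h)
      have hr' : (t : X) = e r := Subtype.ext hr.symm
      rw [hr']
      rw [hr', hTe] at htT
      exact hχe r htT
    · obtain ⟨r, hr⟩ := M.surj _ (hψA (t * t1⁻¹) (by rw [map_mul, map_inv, h, hψ1, mul_inv_cancel]))
      have hr' : (t : X) * (t1 : X)⁻¹ = e r := Subtype.ext hr.symm
      have hm := T1.mul_mem htT (T1.inv_mem hT1t1)
      rw [hr', hTe] at hm
      have := congrArg χ hr'
      rw [hχe r hm, map_mul, map_inv, hχt1, inv_one, mul_one] at this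
      exact this
    · rw [hχsame t ht (by rw [h]; decide +kernel) (by rw [h]; decide +kernel), hχt1]
    · rw [hχsame t ht (by rw [h]; decide +kernel) (by rw [h]; decide +kernel), hχt1]
  have hχqne : χ qX ≠ 1 := by rw [hχq]; decide
  have hPker : ∀ x ∈ (P : Subgroup X), x ∈ χ.ker → x ∈ T1 := fun x hx hk => by
    refine (hsplit x hx).resolve_right fun h => hχqne ?_
    have := hT1ker h
    rwa [MonoidHom.mem_ker, map_mul, MonoidHom.mem_ker.mp hk, mul_one] at this
  have hsylX : ∀ R : Subgroup X, T1 ≤ R → R ≤ χ.ker → IsPGroup 2 R → R ≤ T1 := by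
    intro R h1 h2 h3
    obtain ⟨R', hR'⟩ := h3.exists_le_sylow
    obtain ⟨k, hk⟩ := MulAction.exists_smul_eq X R' P
    have hle : R.map (MulAut.conj k).toMonoidHom ≤ T1 := by
      rintro _ ⟨r, hr, rfl⟩
      refine hPker _ (by rw [← hk, Sylow.coe_subgroup_smul]; exact ⟨r, hR' hr, rfl⟩) ?_
      exact (inferInstance : χ.ker.Normal).conj_mem r (h2 hr) k
    have hcard := Subgroup.card_le_of_le hle
    rw [Subgroup.card_map_of_injective (MulAut.conj k).injective] at hcard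
    exact (Subgroup.eq_of_le_of_card_ge h1 hcard).ge
  -- the quotient
  haveI : (Subgroup.zpowers za).Normal := ⟨fun y hy g => by
    obtain ⟨j, rfl⟩ := Subgroup.mem_zpowers_iff.mp hy
    rw [(Commute.zpow_right (hzc g) j).eq, mul_inv_cancel_right]
    exact Subgroup.zpow_mem_zpowers za j⟩
  set mk : X →* X ⧸ Subgroup.zpowers za := QuotientGroup.mk' _ with hmk
  have hzp : ∀ y ∈ Subgroup.zpowers za, y = 1 ∨ y = za := by
    intro y hy
    obtain ⟨j, rfl⟩ := Subgroup.mem_zpowers_iff.mp hy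
    rcases Int.even_or_odd' j with ⟨i, rfl | rfl⟩
    · left; rw [zpow_mul, zpow_two, hz2, one_zpow]
    · right; rw [zpow_add, zpow_mul, zpow_two, hz2, one_zpow, one_mul, zpow_one]
  have hmkz : mk za = 1 := (QuotientGroup.eq_one_iff za).mpr (Subgroup.mem_zpowers za)
  have hmk_eq : ∀ {x y : X}, mk x = mk y → y = x ∨ y = x * za := fun {x y} h => by
    obtain ⟨z, hz, rfl⟩ := (QuotientGroup.mk'_eq_mk' _).mp h
    rcases hzp z hz with rfl | rfl
    · exact Or.inl (mul_one x)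
    · exact Or.inr rfl
  have hmk_ez : ∀ {s t}, mk (e s) = mk (e t) ↔ eqz s t := fun {s t} => by
    have e1 : e s * za = e (s ∆ {4}) := he_mul s _
    constructor
    · intro h
      rcases hmk_eq h with h | h
      · exact Or.inl (by rw [symmDiff_comm]; exact he_eq.mp h)
      · rw [e1] at h
        exact Or.inr (by rw [symmDiff_assoc, symmDiff_comm t, ← symmDiff_assoc, symmDiff_comm]; exact he_eq.mp h)
    · rintro (h | h)
      · rw [he_eq.mpr h]
      · rw [symmDiff_assoc, symmDiff_comm t, ← symmDiff_assoc] at h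
        rw [← he_eq.mpr h, ← e1, map_mul, hmkz, mul_one]
  have hmks : ∀ s t, mk (e s) * mk (e t) = mk (e (s ∆ t)) := fun s t => by rw [← map_mul, he_mul]
  set U := T1.map mk
  set X1 := χ.ker.map mk
  set V := (T1 ⊓ AX).map mk
  have hU_mem : ∀ {x : X}, mk x ∈ U → x ∈ T1 := fun {x} hx => by
    obtain ⟨y, hy, h⟩ := hx
    rcases hmk_eq h with rfl | rfl
    · exact hy
    · exact T1.mul_mem hy hzT
  have hVmem : ∀ {v}, v ∈ V → ∃ i, v = mk (e (rep i)) := by
    rintro _ ⟨x, ⟨hxT, hxA⟩, rfl⟩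
    obtain ⟨s, hs⟩ := M.surj _ hxA
    have : x = e s := Subtype.ext hs.symm
    subst this
    obtain ⟨i, hi⟩ := vgood_rep s ((hTe s).mp hxT)
    exact ⟨i, hmk_ez.mpr hi⟩
  have hVof : ∀ s, vgood s → mk (e s) ∈ V := fun s hs => ⟨e s, ⟨(hTe s).mpr hs, M.mem s⟩, rfl⟩
  have hUsq : ∀ u ∈ U, u * u = 1 := by
    rintro _ ⟨x, hx, rfl⟩
    obtain ⟨s, t, htT, ht, hpt, hxe⟩ := hform ⟨x, hT1P hx⟩
    simp only at hxe
    have hs : vgood s := (hTe s).mp (by
      have h := T1.mul_mem hx (T1.inv_mem htT)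
      rwa [hxe, mul_inv_cancel_right] at h)
    have e2 : x * x = e (s ∆ s.image (ψ t)) := by
      rw [hxe, ← he_mul, ← hconj, show e s * (t : X) * (e s * (t : X)) = e s * ((t : X) * e s * t) by group,
        invol_inv ht]
    rw [← map_mul, e2, ← map_one mk, ← he0, hmk_ez]
    exact (show ∀ s, vgood s → ∀ p, inV p → eqz (s ∆ s.image p) ∅ by decide +kernel) s hs _ (hψV t)
  have hUc : ∀ u ∈ U, ∀ w ∈ U, u * w = w * u := fun u hu w hw => by
    have := invol_inv (hUsq _ (U.mul_mem hu hw))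
    rw [mul_inv_rev, invol_inv (hUsq u hu), invol_inv (hUsq w hw)] at this
    exact this.symm
  have hmkq : ∀ (x : (P : Subgroup X)), (x : X) ∈ T1 →
      mk (x : X) * (mk qX * mk (x : X) * mk qX) = mk (e (({3} : Finset (Fin 5)).image (ψ x) ∆ {3})) := fun x hx => by
    have hxx : mk (x : X) * mk (x : X) = 1 := hUsq _ ⟨_, hx, rfl⟩
    rw [← he_mul, map_mul, ← hconj, map_mul, map_mul, map_inv, invol_inv hxx, ← hqX]
    group
  have h8 : 8 ≤ Nat.card U := by
    have hm : ∀ (i : Fin 4) (b : Bool), mk (e (rep i) * if b then (t1 : X) else 1) ∈ U := fun i b => by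
      refine ⟨_, T1.mul_mem ((hTe _).mpr (rep_vgood i)) ?_, rfl⟩
      cases b
      · exact T1.one_mem
      · exact hT1t1
    have := Nat.card_le_card_of_injective (fun p : Fin 4 × Bool => (⟨_, hm p.1 p.2⟩ : U)) (by
      rintro ⟨i, b⟩ ⟨j, c⟩ h
      have h' := congrArg Subtype.val h
      simp only at h'
      have hbc : ∀ s, mk (t1 : X) ≠ mk (e s) := fun s h0 => by
        have hA : ((t1 : X) : G) ∈ M.A := by
          rcases hmk_eq h0.symm with h1 | h1
          · rw [h1]; exact M.mem s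
          · rw [h1, Subgroup.coe_mul]; exact M.A.mul_mem (M.mem s) (M.mem _)
        have := M.σ_eq_one ⟨((t1 : X) : G), hPN _ t1.2⟩ (fun b hb => M.comm _ hA b hb)
        exact (show p1 ≠ 1 by decide +kernel) (hψ1.symm.trans this)
      have hinj : ∀ i j, mk (e (rep i)) = mk (e (rep j)) → i = j := fun i j h =>
        (show ∀ i j, eqz (rep i) (rep j) → i = j by decide +kernel) i j (hmk_ez.mp h)
      cases b <;> cases c <;>
        simp only [Bool.false_eq_true, if_false, if_true, mul_one, map_mul, map_one] at h'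
      · rw [hinj i j h']
      · refine absurd ?_ (hbc (rep j ∆ rep i))
        rw [← hmks, h', ← mul_assoc, ← map_mul, he_sq, map_one, one_mul]
      · refine absurd ?_ (hbc (rep i ∆ rep j))
        rw [← hmks, ← h', ← mul_assoc, ← map_mul, he_sq, map_one, one_mul]
      · rw [hinj i j (mul_right_cancel h')])
    simpa using this
  have hsylU : ∀ R : Subgroup (X ⧸ Subgroup.zpowers za), U ≤ R → R ≤ X1 → IsPGroup 2 R → R ≤ U := by
    intro R h1 h2 h3 r hr
    obtain ⟨x, hx, rfl⟩ := h2 hr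
    refine ⟨x, hsylX (R.comap mk ⊓ χ.ker) (fun y hy => ⟨h1 ⟨y, hy, rfl⟩, hT1ker hy⟩) inf_le_right
      ((h3.comap_of_ker_isPGroup mk ?_).to_le inf_le_left) ⟨hr, hx⟩, rfl⟩
    rw [hmk, QuotientGroup.ker_mk']
    rintro ⟨y, hy⟩
    refine ⟨1, Subtype.ext ?_⟩
    rcases hzp y hy with rfl | rfl
    · simp
    · show za ^ 2 ^ 1 = 1
      rw [pow_one, pow_two, hz2]
  have hnc : ∀ v ∈ V, ∀ g ∈ X1, g * v * g⁻¹ ∈ U → g * v * g⁻¹ ∈ V := by
    rintro v hv _ ⟨x, -, rfl⟩ h
    obtain ⟨i, rfl⟩ := hVmem hv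
    rw [← map_inv, ← map_mul, ← map_mul] at h ⊢
    obtain ⟨r, hr⟩ := hA_of x _ (hT1P (hU_mem h))
    rw [hr]
    exact hVof r ((hTe r).mp (hr ▸ hU_mem h))
  obtain ⟨hflat, hcomm⟩ := flat (X := X1) (U := U) (Subgroup.map_mono hT1ker) hUsq hUc hsylU h8 V
    (Subgroup.map_mono inf_le_left) ⟨_, hVof (rep 1) (rep_vgood 1), fun h => by
      rw [← map_one mk, ← he0, hmk_ez] at h
      exact (show ¬ eqz (rep 1) ∅ by decide +kernel) h⟩
    ⟨mk t1, ⟨_, hT1t1, rfl⟩, fun h => by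
      obtain ⟨i, hi⟩ := hVmem h
      rcases hmk_eq hi.symm with h1 | h1
      all_goals
        have hA : ((t1 : X) : G) ∈ M.A := by
          rw [h1]
          first
            | exact M.mem _
            | exact M.A.mul_mem (M.mem _) (M.mem _)
        exact (show p1 ≠ 1 by decide +kernel)
          (hψ1.symm.trans (M.σ_eq_one ⟨((t1 : X) : G), hPN _ t1.2⟩ (fun b hb => M.comm _ hA b hb)))⟩
    (fun v hv w hw x hx h1 h2 h3 => by
      obtain ⟨i, rfl⟩ := hVmem hv
      obtain ⟨j, rfl⟩ := hVmem hw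
      obtain ⟨k, rfl⟩ := hVmem hx
      rw [Ne, ← map_one mk, ← he0, hmk_ez] at h1 h2
      rw [Ne, hmk_ez] at h3
      rw [← map_one mk, ← he0, hmks, hmk_ez, hmk_ez, hmk_ez, hmk_ez]
      exact (show ∀ i j k, ¬ eqz (rep i) ∅ → ¬ eqz (rep j) ∅ → ¬ eqz (rep j) (rep i) →
        eqz (rep k) ∅ ∨ eqz (rep k) (rep i) ∨ eqz (rep k) (rep j) ∨ eqz (rep k) (rep i ∆ rep j) by decide +kernel)
        i j k h1 h2 h3)
    hnc (mk qX) (by rw [← map_mul, hq2, map_one]) (by
      rintro _ ⟨x, hx, rfl⟩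
      refine ⟨qX * x * qX, ?_, by rw [map_mul, map_mul]⟩
      rw [SetLike.mem_coe, MonoidHom.mem_ker, map_mul, map_mul, MonoidHom.mem_ker.mp hx, mul_one, Int.units_mul_self])
    (fun v hv => by
      obtain ⟨i, rfl⟩ := hVmem hv
      rw [← map_mul, ← map_mul, hqX, he_mul, he_mul, symmDiff_comm, ← symmDiff_assoc, symmDiff_self, bot_symmDiff])
    (by
      rintro _ ⟨x, hx, rfl⟩
      rw [hmkq ⟨x, hT1P hx⟩ hx]
      exact hVof _ ((show ∀ p, inV p → vgood (({3} : Finset (Fin 5)).image p ∆ {3}) by decide +kernel) _ (hψV _)))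
    (by
      rintro _ ⟨x, hx, rfl⟩ h
      have h2 := hmkq ⟨x, hT1P hx⟩ hx
      simp only at h2
      rw [h, hUsq _ ⟨x, hx, rfl⟩, ← map_one mk, ← he0, eq_comm, hmk_ez] at h2
      have hp1 := (show ∀ p, inV p → eqz (({3} : Finset (Fin 5)).image p ∆ {3}) ∅ → p = 1 by decide +kernel) _
        (hψV _) h2
      obtain ⟨s, hs⟩ := M.surj _ (hψA ⟨x, hT1P hx⟩ hp1)
      exact ⟨x, ⟨hx, show (x : G) ∈ M.A from hs ▸ M.mem s⟩, rfl⟩)
  -- back to the centralizer
  set O := oddCore X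
  set D := (core X1).comap mk
  haveI hX1n : X1.Normal := Subgroup.Normal.map inferInstance mk (QuotientGroup.mk'_surjective _)
  have hDn : ∀ x d : X, d ∈ D → x * d * x⁻¹ ∈ D := fun x d hd => by
    show mk (x * d * x⁻¹) ∈ core X1
    rw [map_mul, map_mul, map_inv]
    refine core_conj (fun y => ⟨fun hy => hX1n.conj_mem y hy _, fun hy => ?_⟩) hd
    have := hX1n.conj_mem _ hy (mk x)⁻¹
    simpa [mul_assoc] using this
  have hD : ∀ d ∈ D, ∃ o ∈ O, d = o ∨ d = za * o := by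
    have hb := burnside2 (X := D) (A := Subgroup.zpowers za)
      (Subgroup.zpowers_le.mpr (show mk za ∈ core X1 by rw [hmkz]; exact one_mem _))
      (fun y hy => by rcases hzp y hy with rfl | rfl; exacts [one_mul 1, hz2])
      (fun R _ hRD hR r hr => by
        obtain ⟨k, hk⟩ := hR ⟨r, hr⟩
        have h2 : orderOf (mk r) ∣ 2 ^ k := orderOf_dvd_of_pow_eq_one (by
          rw [← map_pow, show r ^ 2 ^ k = 1 from congrArg Subtype.val hk, map_one])
        exact (QuotientGroup.eq_one_iff r).mp (orderOf_eq_one_iff.mp (Nat.Coprime.eq_one_of_dvd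
          (Nat.Coprime.pow_right _ (Nat.coprime_two_right.mpr (odd_orderOf (core_odd X1) (hRD hr)))) h2)))
      (fun n _ _ y hy => by
        obtain ⟨j, rfl⟩ := Subgroup.mem_zpowers_iff.mp hy
        rw [(Commute.zpow_right (hzc n) j).eq, mul_inv_cancel_right])
    intro d hd
    obtain ⟨z, hz, o, ho, rfl⟩ := hb d hd
    haveI : (core D).Normal := ⟨fun o ho x => core_conj (fun y => ⟨fun hy => hDn x y hy, fun hy => by
      have := hDn x⁻¹ _ hy
      simpa [mul_assoc] using this⟩) ho⟩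
    refine ⟨o, CfsgLib.le_oddCore (core_odd D) ho, ?_⟩
    rcases hzp z hz with rfl | rfl
    · exact Or.inl (one_mul o)
    · exact Or.inr rfl
  set L := AX ⊔ O
  have hnorm : ∀ n : X, n ∈ χ.ker → mk n ∈ Subgroup.normalizer (U : Set (X ⧸ Subgroup.zpowers za)) →
      ∃ m : X, (m : G) ∈ NA ∧ ∃ o ∈ O, n = m * o := by
    intro n hn hnU
    have hnV : ∀ s, vgood s → n * e s * n⁻¹ ∈ AX := fun s hs => by
      have hm : mk (n * e s * n⁻¹) ∈ U := by
        rw [map_mul, map_mul, map_inv]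
        exact (Subgroup.mem_normalizer_iff.mp hnU _).mp ⟨_, (hTe s).mpr hs, rfl⟩
      obtain ⟨r, hr⟩ := hA_of n s (hT1P (hU_mem hm))
      rw [hr]; exact M.mem r
    obtain ⟨u, hu, o', ho', hE⟩ := hcomm (mk n) ⟨n, hn, rfl⟩ hnU
    obtain ⟨t, ht, rfl⟩ := hu
    have hmem : t⁻¹ * (qX * n * qX * n⁻¹) ∈ D := by
      show mk _ ∈ core X1
      rw [map_mul, map_inv, map_mul, map_mul, map_mul, map_inv, hE, inv_mul_cancel_left]
      exact ho'
    obtain ⟨o, ho, hor⟩ := hD _ hmem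
    obtain ⟨t', ht', hte⟩ : ∃ t' ∈ T1, qX * n * qX * n⁻¹ = t' * o := by
      rcases hor with h | h
      · exact ⟨t, ht, by rw [← h, mul_inv_cancel_left]⟩
      · exact ⟨t * za, T1.mul_mem ht hzT, by rw [mul_assoc t za o, ← h, mul_inv_cancel_left]⟩
    set y := qX * t'
    have hy : n * qX * n⁻¹ = y * o := by
      rw [show y * o = qX * (t' * o) from mul_assoc _ _ _, ← hte, show qX * (qX * n * qX * n⁻¹) = (qX * qX) * n * qX * n⁻¹ by group, hq2, one_mul]
    have hyo : y * o * (y * o) = 1 := by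
      rw [← hy, show n * qX * n⁻¹ * (n * qX * n⁻¹) = n * (qX * qX) * n⁻¹ by group, hq2]; group
    have hyP : y ∈ (P : Subgroup X) := mul_mem hqP (hT1P ht')
    have hOodd : Odd (Nat.card O) := CfsgLib.odd_card_oddCore
    have hyy : y * y = 1 := by
      have hO' : y * y ∈ O := by
        have h1 : y * y = (y * o * y⁻¹ * (y * y * o * (y * y)⁻¹))⁻¹ :=
          eq_inv_of_mul_eq_one_right (by rw [← hyo]; group)
        rw [h1]
        exact inv_mem (mul_mem ((inferInstance : O.Normal).conj_mem o ho y)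
          ((inferInstance : O.Normal).conj_mem o ho _))
      obtain ⟨k, hk⟩ := P.2 ⟨y * y, mul_mem hyP hyP⟩
      exact orderOf_eq_one_iff.mp (Nat.Coprime.eq_one_of_dvd
        (Nat.Coprime.pow_right _ (Nat.coprime_two_right.mpr (odd_orderOf hOodd hO')))
        (orderOf_dvd_of_pow_eq_one (congrArg Subtype.val hk :)))
    have hinv : y * o * y⁻¹ = o⁻¹ := by
      rw [invol_inv hyy]; exact eq_inv_of_mul_eq_one_left (by rw [← hyo]; group)
    obtain ⟨k, hk⟩ := odd_sqrt (odd_orderOf hOodd ho)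
    have hyc : (o ^ k)⁻¹ * y * o ^ k = y * o := by
      calc (o ^ k)⁻¹ * y * o ^ k = y * o ^ k * y⁻¹ * y * o ^ k := by rw [← conj_pow, hinv, inv_pow]
        _ = y * (o ^ k * o ^ k) := by group
        _ = y * o := by rw [← pow_add, hk]
    have hyA : y ∈ AX := by
      have e3 : y = (o ^ k * n) * qX * (o ^ k * n)⁻¹ := by
        rw [show (o ^ k * n) * qX * (o ^ k * n)⁻¹ = o ^ k * (n * qX * n⁻¹) * (o ^ k)⁻¹ by group, hy, ← hyc]
        group
      obtain ⟨r, hr⟩ := hA_of (o ^ k * n) {3} (e3 ▸ hyP)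
      rw [e3]
      exact (show e r ∈ AX from M.mem r) |> fun h => hr ▸ h
    have hL : ∀ s, n * e s * n⁻¹ ∈ L := fun s => by
      rcases vgood_or s with h | h
      · exact Subgroup.mem_sup_left (hnV s h)
      · have e4 : n * e s * n⁻¹ = (y * o) * (n * e ({3} ∆ s) * n⁻¹) := by
          rw [← hy, ← he_mul, ← hqX, show n * qX * n⁻¹ * (n * (qX * e s) * n⁻¹) = n * (qX * qX) * e s * n⁻¹ by group,
            hq2, mul_one]
        rw [e4]
        exact mul_mem (mul_mem (Subgroup.mem_sup_left hyA) (Subgroup.mem_sup_right ho))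
          (Subgroup.mem_sup_left (hnV _ h))
    -- Sylow in `L`
    have hAL : AX ≤ L := le_sup_left
    have hbase : ∀ R : Subgroup L, AX.subgroupOf L ≤ R → IsPGroup 2 R → ∀ r ∈ R, (r : X) ∈ AX := by
      intro R hR1 hR2 r hr
      obtain ⟨α, hα, o2, ho2, he2⟩ := Subgroup.mem_sup_of_normal_right.mp r.2
      have h1 : (⟨α, hAL hα⟩ : L)⁻¹ * r ∈ R := mul_mem (inv_mem (hR1 hα)) hr
      obtain ⟨j, hj⟩ := hR2 ⟨_, h1⟩
      have h2 : ((⟨α, hAL hα⟩ : L)⁻¹ * r : L).1 = o2 := by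
        show α⁻¹ * (r : X) = o2
        rw [← he2, inv_mul_cancel_left]
      have h3 : o2 ^ 2 ^ j = 1 := by
        rw [← h2]; exact congrArg (fun z : R => ((z : L) : X)) hj
      rw [← he2, orderOf_eq_one_iff.mp (Nat.Coprime.eq_one_of_dvd
        (Nat.Coprime.pow_right _ (Nat.coprime_two_right.mpr (odd_orderOf hOodd ho2)))
        (orderOf_dvd_of_pow_eq_one h3)), mul_one]
      exact hα
    set A1 : Subgroup X := AX.map (MulAut.conj n).toMonoidHom
    have hA1 : A1 ≤ L := by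
      rintro _ ⟨α, hα, rfl⟩
      obtain ⟨s, hs⟩ := M.surj _ hα
      rw [show α = e s from Subtype.ext hs.symm]
      exact hL s
    obtain ⟨R0, hR0⟩ := (hAXp.comap_subtype (K := L) : IsPGroup 2 (AX.subgroupOf L)).exists_le_sylow
    obtain ⟨R1, hR1⟩ := ((hAXp.map (MulAut.conj n).toMonoidHom).comap_subtype (K := L) :
      IsPGroup 2 (A1.subgroupOf L)).exists_le_sylow
    obtain ⟨⟨l, hl⟩, hlR⟩ := MulAction.exists_smul_eq L R1 R0
    have hmemA : ∀ α ∈ AX, (l * n) * α * (l * n)⁻¹ ∈ AX := fun α hα => by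
      have h1 : (⟨l, hl⟩ : L) * ⟨n * α * n⁻¹, hA1 ⟨α, hα, rfl⟩⟩ * (⟨l, hl⟩ : L)⁻¹ ∈ (R0 : Subgroup L) := by
        rw [← hlR, Sylow.coe_subgroup_smul]
        exact ⟨⟨n * α * n⁻¹, hA1 ⟨α, hα, rfl⟩⟩, hR1 ⟨α, hα, rfl⟩, rfl⟩
      have := hbase _ hR0 R0.2 _ h1
      simpa [mul_assoc] using this
    obtain ⟨α, hα, o2, ho2, hle⟩ := Subgroup.mem_sup_of_normal_right.mp hl
    have hmN : ((o2 * n : X) : G) ∈ NA := by
      have hln : ((l * n : X) : G) ∈ NA := mem_normalizer_of_le fun b hb => by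
        obtain ⟨s, rfl⟩ := M.surj b hb
        exact hmemA (e s) (M.mem s)
      rw [show o2 * n = α⁻¹ * (l * n) by rw [← hle, mul_assoc, inv_mul_cancel_left]]
      exact NA.mul_mem (NA.inv_mem (M.A_le hα)) hln
    refine ⟨o2 * n, hmN, (o2 * n)⁻¹ * o2⁻¹ * (o2 * n), ?_, by group⟩
    exact (inferInstance : O.Normal).conj_mem' _ (inv_mem ho2) _
  have hker : ∀ x ∈ χ.ker, ∃ m : X, (m : G) ∈ NA ∧ ∃ o ∈ O, x = m * o := by
    intro x hx
    obtain ⟨n', hn', o', ho', hxe⟩ := hflat (mk x) ⟨x, hx, rfl⟩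
    have hnX : n' ∈ X1 := by
      rw [eq_mul_inv_of_mul_eq hxe.symm]
      exact X1.mul_mem ⟨x, hx, rfl⟩ (X1.inv_mem (core_le _ ho'))
    obtain ⟨n, hn, rfl⟩ := hnX
    have hd : n⁻¹ * x ∈ D := by
      show mk _ ∈ core X1
      rw [map_mul, map_inv, hxe, inv_mul_cancel_left]; exact ho'
    obtain ⟨m, hm, o1, ho1, hne⟩ := hnorm n hn hn'
    obtain ⟨o2, ho2, hor⟩ := hD _ hd
    rcases hor with h | h
    · exact ⟨m, hm, o1 * o2, mul_mem ho1 ho2, by
        rw [show x = n * (n⁻¹ * x) by group, h, hne, mul_assoc]⟩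
    · refine ⟨m * za, ?_, o1 * o2, mul_mem ho1 ho2, ?_⟩
      · rw [Subgroup.coe_mul]; exact NA.mul_mem hm (M.A_le (M.mem _))
      · calc x = m * o1 * (za * o2) := by rw [← hne, ← h]; group
          _ = m * (o1 * za) * o2 := by group
          _ = m * za * (o1 * o2) := by rw [hzc]; group
  intro g hg
  have hO : ∀ o ∈ O, (o : G) ∈ core X := fun o ho => ⟨o, ho, rfl⟩
  rcases Int.units_eq_one_or (χ ⟨g, hg⟩) with h | h
  · obtain ⟨m, hm, o, ho, he⟩ := hker ⟨g, hg⟩ h
    exact ⟨m, hm, o, hO o ho, congrArg Subtype.val he⟩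
  · obtain ⟨m, hm, o, ho, he⟩ := hker (qX * ⟨g, hg⟩) (by rw [MonoidHom.mem_ker, map_mul, hχq, h, Int.units_mul_self])
    refine ⟨(qX : G) * (m : G), NA.mul_mem (M.A_le (M.mem _)) hm, o, hO o ho, ?_⟩
    have he' : (qX : G) * g = (m : G) * (o : G) := congrArg Subtype.val he
    rw [mul_assoc, ← he', ← mul_assoc, show (qX : G) * (qX : G) = 1 from congrArg Subtype.val hq2, one_mul]

/-- The centralizer of every involution of the short orbit factorizes. -/
theorem Model.cent_small {G : Type*} [Group G] [Finite G] (M : Model G) {s : Finset (Fin 5)} (hs : small s) :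
    Ctl (Subgroup.centralizer ({M.ev s} : Set G)) (Subgroup.normalizer (M.A : Set G)) := by
  obtain ⟨p, hp, hps⟩ := (show ∀ s : Finset (Fin 5), small s → ∃ p : Equiv.Perm (Fin 5),
    Equiv.Perm.sign p = 1 ∧ triv (({4} : Finset (Fin 5)).image p ∆ s) by decide +kernel) s hs
  obtain ⟨n, rfl⟩ := M.lift p hp
  have he : M.ev s = (n : G) * M.ev {4} * (n : G)⁻¹ := by rw [M.conj]; exact (M.ev_eq.mpr hps).symm
  have hiff : ∀ x, x ∈ Subgroup.centralizer ({M.ev {4}} : Set G) ↔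
      (n : G) * x * (n : G)⁻¹ ∈ Subgroup.centralizer ({M.ev s} : Set G) := fun x => by
    rw [Subgroup.mem_centralizer_singleton_iff, Subgroup.mem_centralizer_singleton_iff, he,
      show (n : G) * x * (n : G)⁻¹ * ((n : G) * M.ev {4} * (n : G)⁻¹) = (n : G) * (x * M.ev {4}) * (n : G)⁻¹ by group,
      show (n : G) * M.ev {4} * (n : G)⁻¹ * ((n : G) * x * (n : G)⁻¹) = (n : G) * (M.ev {4} * x) * (n : G)⁻¹ by group,
      mul_left_inj, mul_right_inj]
  intro g hg
  obtain ⟨m, hm, o, ho, e⟩ := M.cent_four ((n : G)⁻¹ * g * n) ((hiff _).mpr (by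
    rw [show (n : G) * ((n : G)⁻¹ * g * n) * (n : G)⁻¹ = g by group]; exact hg))
  refine ⟨(n : G) * m * (n : G)⁻¹, Subgroup.mul_mem _ (Subgroup.mul_mem _ n.2 hm) (Subgroup.inv_mem _ n.2),
    (n : G) * o * (n : G)⁻¹, core_conj hiff ho, ?_⟩
  calc g = (n : G) * ((n : G)⁻¹ * g * n) * (n : G)⁻¹ := by group
    _ = _ := by rw [e]; group

end CfsgA8C
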