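/-
The centralizer of an involution of the long orbit, and the global factorization.
-/
import Cfsg.Agent.Lib.A8Classes.CentA

set_option autoImplicit false
set_option maxRecDepth 100000

namespace CfsgA8C

open Cfsg Subgroup
open scoped symmDiff

variable {G : Type*} [Group G] [Finite G]

theorem Model.cent_pair (M : Model G) :
    Ctl (Subgroup.centralizer ({M.ev {0, 1}} : Set G)) (Subgroup.normalizer (M.A : Set G)) := by
  classical
  set b := M.ev {0, 1} with hb
  set X := Subgroup.centralizer ({b} : Set G) with hXd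
  have hAX : M.A ≤ X := fun a ha => Subgroup.mem_centralizer_singleton_iff.mpr (M.comm a ha b (M.mem _))
  have hXb : ∀ g ∈ X, g * b * g⁻¹ = b := fun g hg =>
    mul_inv_eq_iff_eq_mul.mpr (Subgroup.mem_centralizer_singleton_iff.mp hg)
  have hz : ∀ ζ ∈ Subgroup.zpowers b, ζ = 1 ∨ ζ = b := by
    intro ζ hζ
    obtain ⟨j, rfl⟩ := Subgroup.mem_zpowers_iff.mp hζ
    rcases Int.even_or_odd' j with ⟨i, rfl | rfl⟩
    · left; rw [zpow_mul, zpow_two, hb, M.ev_sq, one_zpow]
    · right; rw [zpow_add, zpow_mul, zpow_two, hb, M.ev_sq, one_zpow, one_mul, zpow_one]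
  let A' : Subgroup G :=
    { carrier := {x | ∃ s : Finset (Fin 5), x = M.ev s ∧ (1 : Fin 5) ∉ s ∧ Even s.card}
      one_mem' := ⟨∅, M.empty.symm, by simp, by simp⟩
      mul_mem' := by
        rintro _ _ ⟨s, rfl, hs, hs'⟩ ⟨t, rfl, ht, ht'⟩
        obtain ⟨h1, h2⟩ := (show ∀ s t : Finset (Fin 5), (1 : Fin 5) ∉ s → Even s.card → (1 : Fin 5) ∉ t → Even t.card →
          (1 : Fin 5) ∉ s ∆ t ∧ Even (s ∆ t).card by decide +kernel) s t hs hs' ht ht'
        exact ⟨s ∆ t, M.add s t, h1, h2⟩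
      inv_mem' := by
        rintro _ ⟨s, rfl, hs, hs'⟩
        exact ⟨s, invol_inv (M.ev_sq s), hs, hs'⟩ }
  have h8 : 8 ≤ Nat.card A' := by
    have := Nat.card_le_card_of_injective
      (fun s : {s : Finset (Fin 5) // (1 : Fin 5) ∉ s ∧ Even s.card} => (⟨M.ev s.1, s.1, rfl, s.2⟩ : A'))
      fun s t h => Subtype.ext ((show ∀ s t : Finset (Fin 5), (1 : Fin 5) ∉ s → Even s.card → (1 : Fin 5) ∉ t →
        Even t.card → triv (s ∆ t) → s = t by decide +kernel) _ _ s.2.1 s.2.2 t.2.1 t.2.2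
          (M.ev_eq.mp (congrArg Subtype.val h)))
    refine le_trans ?_ this
    rw [Nat.card_eq_fintype_card]
    decide +kernel
  refine master (M.sc.mono le_top hAX) (Z := Subgroup.zpowers b) (A' := A') (Subgroup.zpowers_le.mpr (M.mem _))
    (fun ζ hζ x hx => by
      rcases hz ζ hζ with rfl | rfl
      · rw [one_mul, mul_one]
      · exact (Subgroup.mem_centralizer_singleton_iff.mp hx).symm)
    (by rintro _ ⟨s, rfl, -, -⟩; exact M.mem s) ?_ ?_ h8 ?_ ?_
  · rintro _ ⟨s, rfl, hs, hs'⟩ hsZ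
    rcases hz _ hsZ with h | h
    · exact h
    · exact absurd (M.ev_eq.mp h) ((show ∀ s : Finset (Fin 5), (1 : Fin 5) ∉ s → Even s.card →
        ¬ triv (s ∆ {0, 1}) by decide +kernel) s hs hs')
  · intro a ha
    obtain ⟨s, rfl⟩ := M.surj a ha
    obtain ⟨t, ht, ht', h | h⟩ := (show ∀ s : Finset (Fin 5), ∃ t : Finset (Fin 5), (1 : Fin 5) ∉ t ∧ Even t.card ∧
      (triv (s ∆ t) ∨ triv (s ∆ (t ∆ {0, 1}))) by decide +kernel) s
    · exact ⟨M.ev t, ⟨t, rfl, ht, ht'⟩, 1, one_mem _, by rw [mul_one]; exact M.ev_eq.mpr h⟩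
    · exact ⟨M.ev t, ⟨t, rfl, ht, ht'⟩, b, Subgroup.mem_zpowers b, by rw [hb, M.add]; exact M.ev_eq.mpr h⟩
  · intro w hw hwZ
    obtain ⟨s, rfl⟩ := M.surj w hw
    have h1 : ¬ triv s := fun h => hwZ (by
      rw [show M.ev s = M.ev ∅ from M.ev_eq.mpr
        ((show ∀ r : Finset (Fin 5), triv r → triv (r ∆ ∅) by decide +kernel) s h), M.empty]
      exact one_mem _)
    have h2 : ¬ triv (s ∆ {0, 1}) := fun h => hwZ (by rw [M.ev_eq.mpr h]; exact Subgroup.mem_zpowers b)
    have key : ∀ t, small t → Ctl (X ⊓ Subgroup.centralizer ({M.ev t} : Set G)) (Subgroup.normalizer (M.A : Set G)) :=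
      fun t ht => by
        rw [inf_comm, hXd, hb]
        exact (M.cent_small ht).inter M.sq M.comm
          (fun a ha => Subgroup.mem_centralizer_singleton_iff.mpr (M.comm a ha _ (M.mem t))) (M.mem _)
    by_cases hs : small s
    · exact key s hs
    by_cases hs' : small (s ∆ {0, 1})
    · have heq : X ⊓ Subgroup.centralizer ({M.ev s} : Set G) =
          X ⊓ Subgroup.centralizer ({M.ev (s ∆ {0, 1})} : Set G) := by
        ext t
        simp only [Subgroup.mem_inf, Subgroup.mem_centralizer_singleton_iff]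
        refine and_congr_right fun ht => ?_
        replace ht : t * b = b * t := Subgroup.mem_centralizer_singleton_iff.mp ht
        rw [← M.add, ← hb, ← mul_assoc t (M.ev s) b, mul_assoc (M.ev s) b t, ← ht, ← mul_assoc (M.ev s) t b,
          mul_left_inj]
      rw [heq]
      exact key _ hs'
    have hfree : ∀ n : ↥(Subgroup.normalizer (M.A : Set G)), (n : G) * b * (n : G)⁻¹ = b →
        (n : G) * M.ev s * (n : G)⁻¹ = M.ev s → M.σ n = 1 := fun n e1 e2 => by
      rw [hb, M.conj, M.ev_eq] at e1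
      rw [M.conj, M.ev_eq] at e2
      exact (show ∀ s : Finset (Fin 5), ¬ triv s → ¬ triv (s ∆ {0, 1}) → ¬ small s → ¬ small (s ∆ {0, 1}) →
        ∀ p : Equiv.Perm (Fin 5), Equiv.Perm.sign p = 1 → triv (({0, 1} : Finset (Fin 5)).image p ∆ {0, 1}) →
          triv (s.image p ∆ s) → p = 1 by decide +kernel) s h1 h2 hs hs' _ (M.sign n) e1 e2
    have hb2 : Ctl (X ⊓ Subgroup.centralizer ({M.ev s} : Set G)) M.A := by
      refine burnside2 (fun a ha => ⟨hAX ha, Subgroup.mem_centralizer_singleton_iff.mpr (M.comm a ha _ (M.mem s))⟩)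
        M.sq (fun R hAR hR hp r hr => ?_) fun n hn hnA a ha => ?_
      · obtain ⟨k, hk⟩ := hp ⟨r, hr⟩
        exact M.two_ker ⟨r, M.syl R hAR hp hr⟩ (hfree _ (hXb r (hR hr).1)
          (mul_inv_eq_iff_eq_mul.mpr (Subgroup.mem_centralizer_singleton_iff.mp (hR hr).2)))
          ⟨k, congrArg Subtype.val hk⟩
      · obtain ⟨α, hα, o, ho, e⟩ := M.ker ⟨n, mem_normalizer_of_le hnA⟩ (hfree _ (hXb n hn.1)
          (mul_inv_eq_iff_eq_mul.mpr (Subgroup.mem_centralizer_singleton_iff.mp hn.2)))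
        change n = α * o at e
        rw [mul_inv_eq_iff_eq_mul, e, mul_assoc, ← Subgroup.mem_centralizer_iff.mp (core_le _ ho) a ha, ← mul_assoc,
          ← mul_assoc, M.comm α hα a ha]
    intro g hg
    obtain ⟨n, hn, o, ho, e⟩ := hb2 g hg
    exact ⟨n, M.A_le hn, o, ho, e⟩
  · intro B hZB hB a ha
    have hgd : ∀ s : Finset (Fin 5), ¬ triv s → ¬ small s → ¬ small (s ∆ {0, 1}) → M.ev s ∈ B := by
      intro s h0 h1 h2
      have hbX : ∀ g ∈ X, ∀ r, g * M.ev r * g⁻¹ * b = g * M.ev (r ∆ {0, 1}) * g⁻¹ := fun g hg r => by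
        conv_lhs => rw [← hXb g hg]
        rw [← M.add, ← hb]; group
      refine hB _ (M.mem s) ⟨M.ev {2, 3}, M.mem _, fun h => ?_, fun g hg e => ?_, fun ζ hζ hζ1 g hg => ?_⟩
      · rcases hz _ h with h | h
        · exact M.ev_ne_one (show ¬ triv {2, 3} by decide +kernel) h
        · exact (show ¬ triv (({2, 3} : Finset (Fin 5)) ∆ {0, 1}) by decide +kernel) (M.ev_eq.mp h)
      · have e' : g * M.ev ({2, 3} ∆ {0, 1}) * g⁻¹ = M.ev (s ∆ {0, 1}) := by rw [← hbX g hg, e, hb, M.add]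
        exact h2 ((M.fus_small (show ¬ triv (({2, 3} : Finset (Fin 5)) ∆ {0, 1}) by decide +kernel) e').mp
          (by decide +kernel))
      · have hζb : ζ = b := (hz ζ hζ).resolve_left hζ1
        rw [hζb, hb, M.add]
        have hu : small (({2, 3} : Finset (Fin 5)) ∆ {0, 1}) := by decide +kernel
        exact ⟨fun e => (show ¬ small ({2, 3} : Finset (Fin 5)) by decide +kernel)
          ((M.fus_small (show ¬ triv ({2, 3} : Finset (Fin 5)) by decide +kernel) e).mpr hu),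
          fun e => h1 ((M.fus_small h0 e).mpr hu)⟩
    obtain ⟨s, rfl⟩ := M.surj a ha
    obtain ⟨c1, c2, c3, c4, hc⟩ := (show ∀ s : Finset (Fin 5), ∃ c1 c2 c3 c4 : Bool, triv (s ∆
      ((if c1 then {0, 2} else ∅) ∆ ((if c2 then {0, 3} else ∅) ∆ ((if c3 then {0, 4} else ∅) ∆
        (if c4 then {0, 1} else ∅))))) by decide +kernel) s
    rw [M.ev_eq.mpr hc, ← M.add, ← M.add, ← M.add]
    have hif : ∀ (c : Bool) (t : Finset (Fin 5)), M.ev t ∈ B → M.ev (if c then t else ∅) ∈ B := by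
      intro c t ht
      cases c
      · simp only [Bool.false_eq_true, if_false, M.empty, one_mem]
      · simpa using ht
    refine mul_mem (hif c1 _ (hgd _ ?_ ?_ ?_)) (mul_mem (hif c2 _ (hgd _ ?_ ?_ ?_)) (mul_mem (hif c3 _ (hgd _ ?_ ?_ ?_))
      (hif c4 _ (hZB (Subgroup.mem_zpowers b))))) <;> decide +kernel

/-- The global factorization. -/
theorem Model.global (M : Model G) : Ctl (⊤ : Subgroup G) (Subgroup.normalizer (M.A : Set G)) := by
  classical
  have h16 : 8 ≤ Nat.card M.A := by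
    refine le_trans ?_ (Nat.card_le_card_of_injective
      (fun s : {s : Finset (Fin 5) // (4 : Fin 5) ∉ s} => (⟨M.ev s.1, M.mem _⟩ : M.A))
      fun s t h => Subtype.ext ((show ∀ s t : Finset (Fin 5), (4 : Fin 5) ∉ s → (4 : Fin 5) ∉ t → triv (s ∆ t) → s = t by
        decide +kernel) _ _ s.2 t.2 (M.ev_eq.mp (congrArg Subtype.val h))))
    rw [Nat.card_eq_fintype_card]
    decide
  refine master M.sc (Z := ⊥) (A' := M.A) bot_le (fun ζ hζ x _ => by rw [Subgroup.mem_bot.mp hζ, one_mul, mul_one])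
    le_rfl (fun a _ ha => Subgroup.mem_bot.mp ha) (fun a ha => ⟨a, ha, 1, one_mem _, (mul_one a).symm⟩) h16 ?_ ?_
  · intro w hw hwZ
    obtain ⟨s, rfl⟩ := M.surj w hw
    have h1 : ¬ triv s := fun h => hwZ (Subgroup.mem_bot.mpr (by
      rw [show M.ev s = M.ev ∅ from M.ev_eq.mpr
        ((show ∀ r : Finset (Fin 5), triv r → triv (r ∆ ∅) by decide +kernel) s h), M.empty]))
    rw [top_inf_eq]
    by_cases hs : small s
    · exact M.cent_small hs
    obtain ⟨p, hp, hps⟩ := (show ∀ s : Finset (Fin 5), ¬ triv s → ¬ small s → ∃ p : Equiv.Perm (Fin 5),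
      Equiv.Perm.sign p = 1 ∧ triv (({0, 1} : Finset (Fin 5)).image p ∆ s) by decide +kernel) s h1 hs
    obtain ⟨n, rfl⟩ := M.lift p hp
    have he : M.ev s = (n : G) * M.ev {0, 1} * (n : G)⁻¹ := by rw [M.conj]; exact (M.ev_eq.mpr hps).symm
    have hiff : ∀ x, x ∈ Subgroup.centralizer ({M.ev {0, 1}} : Set G) ↔
        (n : G) * x * (n : G)⁻¹ ∈ Subgroup.centralizer ({M.ev s} : Set G) := fun x => by
      rw [Subgroup.mem_centralizer_singleton_iff, Subgroup.mem_centralizer_singleton_iff, he,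
        show (n : G) * x * (n : G)⁻¹ * ((n : G) * M.ev {0, 1} * (n : G)⁻¹) =
          (n : G) * (x * M.ev {0, 1}) * (n : G)⁻¹ by group,
        show (n : G) * M.ev {0, 1} * (n : G)⁻¹ * ((n : G) * x * (n : G)⁻¹) =
          (n : G) * (M.ev {0, 1} * x) * (n : G)⁻¹ by group, mul_left_inj, mul_right_inj]
    intro g hg
    obtain ⟨m, hm, o, ho, e⟩ := M.cent_pair ((n : G)⁻¹ * g * n) ((hiff _).mpr (by
      rw [show (n : G) * ((n : G)⁻¹ * g * n) * (n : G)⁻¹ = g by group]; exact hg))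
    refine ⟨(n : G) * m * (n : G)⁻¹, Subgroup.mul_mem _ (Subgroup.mul_mem _ n.2 hm) (Subgroup.inv_mem _ n.2),
      (n : G) * o * (n : G)⁻¹, core_conj hiff ho, ?_⟩
    calc g = (n : G) * ((n : G)⁻¹ * g * n) * (n : G)⁻¹ := by group
      _ = _ := by rw [e]; group
  · intro B _ hB a ha
    refine hB a ha ?_
    obtain ⟨s, rfl⟩ := M.surj a ha
    obtain ⟨r, hr, hrs⟩ := (show ∀ s : Finset (Fin 5), ∃ r : Finset (Fin 5), ¬ triv r ∧ (triv s ∨ (small r ↔ ¬ small s))
      by decide +kernel) s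
    refine ⟨M.ev r, M.mem r, fun h => M.ev_ne_one hr (Subgroup.mem_bot.mp h), fun g _ e => ?_,
      fun ζ hζ h => absurd (Subgroup.mem_bot.mp hζ) h⟩
    rcases hrs with h | h
    · have h1 : M.ev s = 1 := by
        rcases h with rfl | rfl
        · exact M.empty
        · exact M.one_univ
      exact M.ev_ne_one hr (conj_eq_one_iff.mp (e.trans h1))
    · exact iff_not_self ((M.fus_small hr e).symm.trans h)

end CfsgA8C
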